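import Mathlib
import Groth.Prelude.Def_Red2
import Groth.Agent.Lib.Helper3.DSKit

universe u
open CategoryTheory MonoidalCategory CartesianMonoidalCategory MonObj GrpObj AlgebraicGeometry Limits

namespace Groth.Agent.H3.HomDiag

section Gen

variable {C : Type*} [Category C] [CartesianMonoidalCategory C] {A B : C} [GrpObj A] [GrpObj B]

theorem grp_hom_inv (e : Grp.mk A ≅ Grp.mk B) : e.hom.hom.hom ≫ e.inv.hom.hom = 𝟙 A := by
  have := congrArg (fun f => f.hom.hom) e.hom_inv_id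
  exact this

theorem grp_inv_hom (e : Grp.mk A ≅ Grp.mk B) : e.inv.hom.hom ≫ e.hom.hom.hom = 𝟙 B := by
  have := congrArg (fun f => f.hom.hom) e.inv_hom_id
  exact this

end Gen

section BC

variable {S T T' : Scheme.{u}}

/-- base change along a composite, as groups -/
noncomputable def bcComp (t' : T' ⟶ T) (t : T ⟶ S) (G : Over S) [GrpObj G] :
    Grp.mk (Red.bc (t' ≫ t) G) ≅ Grp.mk (Red.bc t' (Red.bc t G)) :=
  (Functor.mapGrpNatIso (Over.pullbackComp t' t)).app (Grp.mk G) ≪≫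
    (Functor.mapGrpCompIso (F := Over.pullback t) (G := Over.pullback t')).app (Grp.mk G)

theorem bcComp_hom (t' : T' ⟶ T) (t : T ⟶ S) (G : Over S) [GrpObj G] :
    (bcComp t' t G).hom.hom.hom = (Over.pullbackComp t' t).hom.app G := by
  simp [bcComp]
  exact Category.comp_id _

/-- transport along an equality of base maps -/
noncomputable def bcEq {f g : T ⟶ S} (h : f = g) (G : Over S) [GrpObj G] :
    Grp.mk (Red.bc f G) ≅ Grp.mk (Red.bc g G) := by
  subst h
  exact Iso.refl _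

theorem bcEq_natural {f g : T ⟶ S} (h : f = g) {G H : Over S} [GrpObj G] [GrpObj H] (w : G ⟶ H) :
    (Over.pullback f).map w ≫ (bcEq h H).hom.hom.hom =
      (bcEq h G).hom.hom.hom ≫ (Over.pullback g).map w := by
  subst h
  change _ ≫ 𝟙 _ = 𝟙 _ ≫ _
  rw [Category.comp_id, Category.id_comp]

theorem bcComp_natural (t' : T' ⟶ T) (t : T ⟶ S) {G H : Over S} [GrpObj G] [GrpObj H] (w : G ⟶ H) :
    (Over.pullback (t' ≫ t)).map w ≫ (bcComp t' t H).hom.hom.hom =
      (bcComp t' t G).hom.hom.hom ≫ (Over.pullback t').map ((Over.pullback t).map w) := by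
  rw [bcComp_hom, bcComp_hom]
  exact (Over.pullbackComp t' t).hom.naturality w

open Groth.Agent.H4.GaGm in
/-- `D_{T'}(M)` is the base change of `D_T(M)`, as groups. -/
noncomputable def dsBC (t' : T' ⟶ T) (M : Type) [AddCommGroup M] :
    Grp.mk (Red.bc t' (Red.DS T M)) ≅ Grp.mk (Red.DS T' M) :=
  (bcComp t' (fZ T) (Red.diag (ULift.{u} ℤ) M)).symm ≪≫
    bcEq (specULiftZIsTerminal.hom_ext (t' ≫ fZ T) (fZ T')) (Red.diag (ULift.{u} ℤ) M)

open Groth.Agent.H4.GaGm in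
theorem dsBC_natural (t' : T' ⟶ T) {M N : Type} [AddCommGroup M] [AddCommGroup N] (φ : N →+ M) :
    (Over.pullback t').map (Red.DSmap T φ) ≫ (dsBC t' N).hom.hom.hom =
      (dsBC t' M).hom.hom.hom ≫ Red.DSmap T' φ := by
  have h1 := bcComp_natural t' (fZ T) (Red.diagMap (ULift.{u} ℤ) φ)
  have h2 := bcEq_natural (specULiftZIsTerminal.hom_ext (t' ≫ fZ T) (fZ T'))
    (Red.diagMap (ULift.{u} ℤ) φ)
  have e1 : (dsBC t' N).hom.hom.hom = (bcComp t' (fZ T) (Red.diag (ULift.{u} ℤ) N)).inv.hom.hom ≫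
      (bcEq (specULiftZIsTerminal.hom_ext (t' ≫ fZ T) (fZ T')) (Red.diag (ULift.{u} ℤ) N)).hom.hom.hom := rfl
  have e2 : (dsBC t' M).hom.hom.hom = (bcComp t' (fZ T) (Red.diag (ULift.{u} ℤ) M)).inv.hom.hom ≫
      (bcEq (specULiftZIsTerminal.hom_ext (t' ≫ fZ T) (fZ T')) (Red.diag (ULift.{u} ℤ) M)).hom.hom.hom := rfl
  have h3 : (Over.pullback t').map (Red.DSmap T φ) ≫
      (bcComp t' (fZ T) (Red.diag (ULift.{u} ℤ) N)).inv.hom.hom =
      (bcComp t' (fZ T) (Red.diag (ULift.{u} ℤ) M)).inv.hom.hom ≫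
        (Over.pullback (t' ≫ fZ T)).map (Red.diagMap (ULift.{u} ℤ) φ) := by
    have h4 := congrArg (fun f => (bcComp t' (fZ T) (Red.diag (ULift.{u} ℤ) M)).inv.hom.hom ≫ f ≫
      (bcComp t' (fZ T) (Red.diag (ULift.{u} ℤ) N)).inv.hom.hom) h1
    simp only [Category.assoc] at h4
    rw [grp_hom_inv, Category.comp_id, ← Category.assoc
      (bcComp t' (fZ T) (Red.diag (ULift.{u} ℤ) M)).inv.hom.hom, grp_inv_hom, Category.id_comp] at h4
    exact h4.symm
  rw [e1, e2, ← Category.assoc, h3, Category.assoc, h2, Category.assoc]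
  rfl

/-- base change of a trivialisation -/
noncomputable def trivBC (t' : T' ⟶ T) (t : T ⟶ S) {G : Over S} [GrpObj G] {M : Type} [AddCommGroup M]
    (a : Grp.mk (Red.bc t G) ≅ Grp.mk (Red.DS T M)) :
    Grp.mk (Red.bc (t' ≫ t) G) ≅ Grp.mk (Red.DS T' M) :=
  bcComp t' t G ≪≫ (Over.pullback t').mapGrp.mapIso a ≪≫ dsBC t' M

theorem trivBC_hom (t' : T' ⟶ T) (t : T ⟶ S) {G : Over S} [GrpObj G] {M : Type} [AddCommGroup M]
    (a : Grp.mk (Red.bc t G) ≅ Grp.mk (Red.DS T M)) :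
    (trivBC t' t a).hom.hom.hom = (bcComp t' t G).hom.hom.hom ≫
      (Over.pullback t').map a.hom.hom.hom ≫ (dsBC t' M).hom.hom.hom := rfl

/-- `u` has the local form `D(φ)` over `t`. -/
def LocForm {G H : Over S} [GrpObj G] [GrpObj H] (u : G ⟶ H) (t : T ⟶ S)
    {M N : Type} [AddCommGroup M] [AddCommGroup N] (φ : N →+ M) : Prop :=
  ∃ (a : Grp.mk (Red.bc t G) ≅ Grp.mk (Red.DS T M))
    (b : Grp.mk (Red.bc t H) ≅ Grp.mk (Red.DS T N)),
    (Over.pullback t).map u ≫ b.hom.hom.hom = a.hom.hom.hom ≫ Red.DSmap T φ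

theorem LocForm.of_map_eq {G H : Over S} [GrpObj G] [GrpObj H] {u : G ⟶ H} {t : T ⟶ S}
    {M N : Type} [AddCommGroup M] [AddCommGroup N] {φ : N →+ M}
    (a : Grp.mk (Red.bc t G) ≅ Grp.mk (Red.DS T M))
    (b : Grp.mk (Red.bc t H) ≅ Grp.mk (Red.DS T N)) (t' : T' ⟶ T)
    (hab : (Over.pullback t').map ((Over.pullback t).map u ≫ b.hom.hom.hom) =
      (Over.pullback t').map (a.hom.hom.hom ≫ Red.DSmap T φ)) :
    LocForm u (t' ≫ t) φ := by
  refine ⟨trivBC t' t a, trivBC t' t b, ?_⟩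
  rw [trivBC_hom, trivBC_hom, ← Category.assoc, bcComp_natural, Category.assoc, Category.assoc,
    ← Category.assoc ((Over.pullback t').map ((Over.pullback t).map u)), ← Functor.map_comp, hab,
    Functor.map_comp, Category.assoc, dsBC_natural]
  simp only [Category.assoc]

theorem LocForm.precomp {G H : Over S} [GrpObj G] [GrpObj H] {u : G ⟶ H} {t : T ⟶ S}
    {M N : Type} [AddCommGroup M] [AddCommGroup N] {φ : N →+ M} (h : LocForm u t φ) (t' : T' ⟶ T) :
    LocForm u (t' ≫ t) φ := by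
  obtain ⟨a, b, hab⟩ := h
  exact LocForm.of_map_eq a b t' (by rw [hab])

end BC

end Groth.Agent.H3.HomDiag
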