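import Mathlib

/-! Algebra of group-like elements of group algebras over arbitrary rings (helper3). -/

set_option autoImplicit false

namespace Groth.Agent.H3.HomDiag

open MonoidAlgebra

section GrpLike

variable {R : Type*} [CommRing R] {Γ : Type*} [CommMonoid Γ]

theorem coeff_inl_mul_inr (y z : MonoidAlgebra R Γ) (m m' : Γ) :
    (mapDomainRingHom R (MonoidHom.inl Γ Γ) y * mapDomainRingHom R (MonoidHom.inr Γ Γ) z).coeff
      (m, m') = y.coeff m * z.coeff m' := by
  classical
  induction y using MonoidAlgebra.induction_linear with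
  | zero => simp
  | add y₁ y₂ h₁ h₂ =>
    rw [map_add, add_mul, coeff_add, Finsupp.add_apply, h₁, h₂, coeff_add, Finsupp.add_apply,
      add_mul]
  | single a r =>
    induction z using MonoidAlgebra.induction_linear with
    | zero => simp
    | add z₁ z₂ h₁ h₂ =>
      rw [map_add, mul_add, coeff_add, Finsupp.add_apply, h₁, h₂, coeff_add, Finsupp.add_apply,
        mul_add]
    | single b r' =>
      rw [mapDomainRingHom_apply, mapDomainRingHom_apply, mapDomain_single, mapDomain_single,
        single_mul_single, coeff_single, coeff_single, coeff_single, Finsupp.single_apply,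
        Finsupp.single_apply, Finsupp.single_apply]
      simp only [MonoidHom.inl_apply, MonoidHom.inr_apply, Prod.mk_mul_mk, mul_one, one_mul,
        Prod.mk.injEq]
      by_cases h1 : a = m <;> by_cases h2 : b = m' <;> simp [h1, h2]

/-- group-like elements, in a form convenient for points of group schemes -/
def IsGL (x : MonoidAlgebra R Γ) : Prop :=
  mapDomainRingHom R ((MonoidHom.id Γ).prod (MonoidHom.id Γ)) x =
    mapDomainRingHom R (MonoidHom.inl Γ Γ) x * mapDomainRingHom R (MonoidHom.inr Γ Γ) x ∧
  MonoidAlgebra.lift R R Γ (1 : Γ →* R) x = 1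

open scoped Classical in
theorem IsGL.coeff_mul {x : MonoidAlgebra R Γ} (h : IsGL x) (m m' : Γ) :
    x.coeff m * x.coeff m' = if m = m' then x.coeff m else 0 := by
  have hd : Function.Injective ((MonoidHom.id Γ).prod (MonoidHom.id Γ)) := by
    intro a b hab
    exact congrArg Prod.fst hab
  have hc := congrArg (fun y => y.coeff (m, m')) h.1
  beta_reduce at hc
  rw [coeff_inl_mul_inr] at hc
  rw [← hc, mapDomainRingHom_apply]
  have hco : (mapDomain ((MonoidHom.id Γ).prod (MonoidHom.id Γ)) x).coeff =
      Finsupp.mapDomain ((MonoidHom.id Γ).prod (MonoidHom.id Γ)) x.coeff := rfl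
  rw [hco]
  split_ifs with hm
  · subst hm
    exact Finsupp.mapDomain_apply hd x.coeff m
  · apply Finsupp.mapDomain_of_notMem_range
    rintro ⟨a, ha⟩
    have h1 := congrArg Prod.fst ha
    have h2 := congrArg Prod.snd ha
    simp at h1 h2
    exact hm (h1.symm.trans h2)

theorem IsGL.sum_coeff {x : MonoidAlgebra R Γ} (h : IsGL x) :
    x.coeff.sum (fun _ r => r) = 1 := by
  have := h.2
  rw [lift_apply'] at this
  simpa using this

theorem IsGL.isIdempotentElem {x : MonoidAlgebra R Γ} (h : IsGL x) (m : Γ) :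
    IsIdempotentElem (x.coeff m) := by
  have := h.coeff_mul m m
  rw [if_pos rfl] at this
  exact this

theorem IsGL.exists_notMem {x : MonoidAlgebra R Γ} (h : IsGL x) (p : Ideal R) [p.IsPrime] :
    ∃ m, x.coeff m ∉ p := by
  by_contra hcon
  push Not at hcon
  have h1 : x.coeff.sum (fun _ r => r) ∈ p := Ideal.sum_mem _ fun m _ => hcon m
  rw [h.sum_coeff] at h1
  exact Ideal.IsPrime.ne_top ‹_› ((Ideal.eq_top_iff_one _).2 h1)

theorem IsGL.lift_eq {x : MonoidAlgebra R Γ} (h : IsGL x) {C : Type*} [CommRing C] [Algebra R C]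
    {m : Γ} (hm : algebraMap R C (x.coeff m) = 1) (χ : Γ →* C) :
    MonoidAlgebra.lift R C Γ χ x = χ m := by
  classical
  rw [lift_apply', Finsupp.sum]
  rw [Finset.sum_eq_single m]
  · rw [hm, one_mul]
  · intro b _ hb
    have h1 := h.coeff_mul b m
    rw [if_neg hb] at h1
    have h2 := congrArg (algebraMap R C) h1
    rw [map_mul, hm, mul_one, map_zero] at h2
    rw [h2, zero_mul]
  · intro hm'
    rw [Finsupp.notMem_support_iff] at hm'
    rw [hm', map_zero, zero_mul]

theorem IsGL.eq_of_notMem {x : MonoidAlgebra R Γ} (h : IsGL x) (p : Ideal R) [p.IsPrime] {m m' : Γ}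
    (hm : x.coeff m ∉ p) (hm' : x.coeff m' ∉ p) : m = m' := by
  classical
  by_contra hne
  have h1 := h.coeff_mul m m'
  rw [if_neg hne] at h1
  have : x.coeff m * x.coeff m' ∈ p := h1 ▸ p.zero_mem
  rcases Ideal.IsPrime.mem_or_mem ‹_› this with h2 | h2
  · exact hm h2
  · exact hm' h2

/-- Local constancy of a multiplicative family of group-like elements. -/
theorem exists_locConst {N' : Type*} [CommMonoid N'] (hfg : Monoid.FG N')
    (X : N' →* MonoidAlgebra R Γ) (hX : ∀ n, IsGL (X n)) (p : Ideal R) [p.IsPrime] :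
    ∃ (e : R) (φ : N' →* Γ), e ∉ p ∧ IsIdempotentElem e ∧ ∀ {C : Type*} [CommRing C] [Algebra R C],
      algebraMap R C e = 1 → ∀ (χ : Γ →* C) (n : N'),
        MonoidAlgebra.lift R C Γ χ (X n) = χ (φ n) := by
  classical
  choose φ₀ hφ₀ using fun n => (hX n).exists_notMem p
  -- reduction modulo `p`
  let D := R ⧸ p
  have hmod : ∀ n, algebraMap R (MonoidAlgebra D Γ) ((X n).coeff (φ₀ n)) = 1 := by
    intro n
    have hid := (hX n).isIdempotentElem (φ₀ n)
    have h1 : (X n).coeff (φ₀ n) * (1 - (X n).coeff (φ₀ n)) = 0 := by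
      rw [mul_sub, mul_one, hid.eq, sub_self]
    have h2 : 1 - (X n).coeff (φ₀ n) ∈ p := by
      have : (X n).coeff (φ₀ n) * (1 - (X n).coeff (φ₀ n)) ∈ p := h1 ▸ p.zero_mem
      exact (Ideal.IsPrime.mem_or_mem ‹_› this).resolve_left (hφ₀ n)
    have h3 : algebraMap R D ((X n).coeff (φ₀ n)) = 1 := by
      have := (Ideal.Quotient.eq_zero_iff_mem (I := p)).2 h2
      rw [map_sub, map_one, sub_eq_zero] at this
      exact this.symm
    rw [MonoidAlgebra.coe_algebraMap, Function.comp_apply, h3]
    rfl
  have hρ : ∀ n, MonoidAlgebra.lift R (MonoidAlgebra D Γ) Γ (MonoidAlgebra.of D Γ) (X n) =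
      MonoidAlgebra.of D Γ (φ₀ n) := fun n => (hX n).lift_eq (hmod n) _
  have hinj : Function.Injective (MonoidAlgebra.of D Γ) := MonoidAlgebra.of_injective
  let φ : N' →* Γ :=
    { toFun := φ₀
      map_one' := by
        apply hinj
        rw [← hρ, map_one, map_one, map_one]
      map_mul' := fun a b => by
        apply hinj
        rw [← hρ, map_mul, map_mul, map_mul, hρ, hρ] }
  obtain ⟨S, hS⟩ := hfg.fg_top
  refine ⟨∏ n ∈ S, (X n).coeff (φ₀ n), φ, ?_, ?_, ?_⟩
  · rw [Ideal.IsPrime.prod_mem_iff]
    rintro ⟨n, -, hn⟩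
    exact hφ₀ n hn
  · exact Finset.prod_induction _ IsIdempotentElem (fun _ _ h₁ h₂ => h₁.mul h₂)
      IsIdempotentElem.one (fun n _ => (hX n).isIdempotentElem (φ₀ n))
  · intro C _ _ he χ n
    have hgen : ∀ n ∈ S, algebraMap R C ((X n).coeff (φ₀ n)) = 1 := by
      intro n hn
      have hid := (hX n).isIdempotentElem (φ₀ n)
      have h1 : (X n).coeff (φ₀ n) * ∏ n ∈ S, (X n).coeff (φ₀ n) =
          ∏ n ∈ S, (X n).coeff (φ₀ n) := by
        rw [← Finset.mul_prod_erase S _ hn, ← mul_assoc, hid.eq]
      have h2 := congrArg (algebraMap R C) h1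
      rw [map_mul, he, mul_one] at h2
      exact h2
    let f₁ : N' →* C := ((MonoidAlgebra.lift R C Γ χ : MonoidAlgebra R Γ →* C)).comp X
    let f₂ : N' →* C := χ.comp φ
    have hf : f₁ = f₂ := by
      apply MonoidHom.eq_of_eqOn_denseM hS
      intro n hn
      exact (hX n).lift_eq (hgen n hn) χ
    exact DFunLike.congr_fun hf n

end GrpLike

section FreeSub

variable {R : Type*} [CommRing R] {G H : Type*} [CommGroup G] [CommGroup H]

/-- The group algebra of `H` is free over the group algebra of a subgroup `G`. -/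
theorem free_of_injective (φ : G →* H) (hφ : Function.Injective φ) :
    letI := (mapDomainRingHom R φ).toAlgebra
    Module.Free (MonoidAlgebra R G) (MonoidAlgebra R H) := by
  letI := (mapDomainRingHom R φ).toAlgebra
  classical
  let π : H → H ⧸ φ.range := QuotientGroup.mk
  let σ : H ⧸ φ.range → H := Quotient.out
  have hσ : ∀ q, π (σ q) = q := fun q => QuotientGroup.out_eq' q
  have hmem : ∀ h : H, h * (σ (π h))⁻¹ ∈ φ.range := by
    intro h
    have h1 : π (σ (π h)) = π h := hσ _
    have h2 := (QuotientGroup.eq (s := φ.range)).1 h1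
    rw [mul_comm]
    exact h2
  choose γ hγ using hmem
  have hπ' : ∀ g q, π (φ g * σ q) = q := by
    intro g q
    rw [← hσ q]
    apply (QuotientGroup.eq (s := φ.range)).2
    rw [hσ q, mul_inv_rev, mul_comm, ← mul_assoc, mul_inv_cancel, one_mul]
    exact (Subgroup.inv_mem_iff _).2 ⟨g, rfl⟩
  have hγ' : ∀ g q, γ (φ g * σ q) = g := by
    intro g q
    apply hφ
    rw [hγ, hπ', mul_assoc, mul_inv_cancel, mul_one]
  have hsmul : ∀ (a : MonoidAlgebra R G) (y : MonoidAlgebra R H),
      a • y = mapDomainRingHom R φ a * y := fun a y => by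
    rw [Algebra.smul_def]
    rfl
  let b : H ⧸ φ.range → MonoidAlgebra R H := fun q => single (σ q) 1
  let L : ((H ⧸ φ.range) →₀ MonoidAlgebra R G) →ₗ[MonoidAlgebra R G] MonoidAlgebra R H :=
    Finsupp.linearCombination _ b
  have hL : ∀ q g r, L (Finsupp.single q (single g r)) = single (φ g * σ q) r := by
    intro q g r
    rw [Finsupp.linearCombination_single, hsmul, mapDomainRingHom_apply, mapDomain_single,
      single_mul_single, mul_one]
  let K : MonoidAlgebra R H →+ ((H ⧸ φ.range) →₀ MonoidAlgebra R G) :=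
    (Finsupp.liftAddHom fun h : H =>
      ((Finsupp.singleAddHom (π h)).comp (singleAddHom (γ h)) :
        R →+ ((H ⧸ φ.range) →₀ MonoidAlgebra R G))).comp
      (coeffAddEquiv : MonoidAlgebra R H ≃+ (H →₀ R)).toAddMonoidHom
  have hK : ∀ h r, K (single h r) = Finsupp.single (π h) (single (γ h) r) := by
    intro h r
    change Finsupp.liftAddHom _ (Finsupp.single h r) = _
    rw [Finsupp.liftAddHom_apply_single]
    rfl
  have hKL : ∀ l, K (L l) = l := by
    intro l
    have : (K.comp L.toAddMonoidHom) = AddMonoidHom.id _ := by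
      apply Finsupp.addHom_ext
      intro q a
      induction a using MonoidAlgebra.induction_linear with
      | zero => simp
      | add a₁ a₂ h₁ h₂ => rw [Finsupp.single_add, map_add, h₁, h₂, map_add]
      | single g r =>
        change K (L (Finsupp.single q (single g r))) = _
        rw [hL, hK, hπ', hγ']
        rfl
    exact DFunLike.congr_fun this l
  have hinj : Function.Injective L := fun l₁ l₂ h => by
    rw [← hKL l₁, ← hKL l₂, h]
  have hsurj : Function.Surjective L := by
    intro y
    induction y using MonoidAlgebra.induction_linear with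
    | zero => exact ⟨0, map_zero _⟩
    | add y₁ y₂ h₁ h₂ =>
      obtain ⟨l₁, rfl⟩ := h₁
      obtain ⟨l₂, rfl⟩ := h₂
      exact ⟨l₁ + l₂, map_add _ _ _⟩
    | single h r =>
      refine ⟨Finsupp.single (π h) (single (γ h) r), ?_⟩
      rw [hL, hγ, inv_mul_cancel_right]
  exact Module.Free.of_equiv (LinearEquiv.ofBijective L ⟨hinj, hsurj⟩)

theorem flat_of_injective (φ : G →* H) (hφ : Function.Injective φ) :
    (mapDomainRingHom R φ).Flat := by
  letI := (mapDomainRingHom R φ).toAlgebra
  have := free_of_injective (R := R) φ hφ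
  exact (inferInstance : Module.Flat (MonoidAlgebra R G) (MonoidAlgebra R H))

theorem comap_surjective_of_injective [Nontrivial R] (φ : G →* H) (hφ : Function.Injective φ) :
    Function.Surjective (PrimeSpectrum.comap (mapDomainRingHom R φ)) := by
  letI := (mapDomainRingHom R φ).toAlgebra
  have := free_of_injective (R := R) φ hφ
  have : Module.FaithfullyFlat (MonoidAlgebra R G) (MonoidAlgebra R H) := inferInstance
  exact PrimeSpectrum.comap_surjective_of_faithfullyFlat
    (A := MonoidAlgebra R G) (B := MonoidAlgebra R H)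

theorem faithfullyFlat_of_injective [Nontrivial R] (φ : G →* H) (hφ : Function.Injective φ) :
    (mapDomainRingHom R φ).FaithfullyFlat := by
  letI := (mapDomainRingHom R φ).toAlgebra
  have := free_of_injective (R := R) φ hφ
  exact (inferInstance : Module.FaithfullyFlat (MonoidAlgebra R G) (MonoidAlgebra R H))

theorem mapDomain_surjective_of_surjective {G H : Type*} [Monoid G] [Monoid H] (φ : G →* H)
    (hφ : Function.Surjective φ) : Function.Surjective (mapDomainRingHom R φ) := by
  intro y
  induction y using MonoidAlgebra.induction_linear with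
  | zero => exact ⟨0, map_zero _⟩
  | add y₁ y₂ h₁ h₂ =>
    obtain ⟨x₁, rfl⟩ := h₁
    obtain ⟨x₂, rfl⟩ := h₂
    exact ⟨x₁ + x₂, map_add _ _ _⟩
  | single h r =>
    obtain ⟨g, rfl⟩ := hφ h
    exact ⟨single g r, by rw [mapDomainRingHom_apply, mapDomain_single]⟩

end FreeSub

end Groth.Agent.H3.HomDiag
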