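import Mathlib
import Groth.Prelude.Def_Red2
import Groth.Agent.Lib.Helper3.RigidAct
import Groth.Agent.Lib.Helper3.DSKit
import Groth.Agent.Lib.Helper3.HomDiag.Alg

/-! Homomorphisms between diagonalisable groups are locally constant: the pointwise core
(helper3). -/

set_option autoImplicit false

universe u

open CategoryTheory MonoidalCategory CartesianMonoidalCategory MonObj GrpObj AlgebraicGeometry Limits
open Groth.Agent.H3.RigidAct Groth.Agent.H3.DSKit Groth.Agent.H4.GaGm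

namespace Groth.Agent.H3.HomDiag

section Core

variable {W : Scheme.{u}} {G H : Over W} [GrpObj G] [GrpObj H]
  {M N : Type} [AddCommGroup M] [AddCommGroup N]
  (a : Grp.mk G ≅ Grp.mk (Red.DS W M)) (b : Grp.mk H ≅ Grp.mk (Red.DS W N))
  (u : G ⟶ H) [IsMonHom u]

include a b u in
theorem core (hN : AddGroup.FG N) {R : CommRingCat.{u}} (s₀ : Spec R ⟶ W)
    (p : PrimeSpectrum R) :
    ∃ (e : R) (φ : N →+ M), e ∉ p.asIdeal ∧ IsIdempotentElem e ∧
      ∀ (C : CommRingCat.{u}) (θ : R ⟶ C), θ.hom e = 1 →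
      ∀ (g : Over.mk (Spec.map θ ≫ s₀) ⟶ G) (n : Multiplicative N),
        chC b (g ≫ u) n = chC a g (Multiplicative.ofAdd (φ n.toAdd)) := by
  -- the universal point over the group algebra
  let C₁ : CommRingCat.{u} := CommRingCat.of (MonoidAlgebra R (Multiplicative M))
  let θ₁ : R ⟶ C₁ := CommRingCat.ofHom (algebraMap R (MonoidAlgebra R (Multiplicative M)))
  let s₁ : Spec C₁ ⟶ W := Spec.map θ₁ ≫ s₀
  obtain ⟨g₁, hg₁⟩ := chC_surjective a s₁ (MonoidAlgebra.of R (Multiplicative M))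
  let X : Multiplicative N →* MonoidAlgebra R (Multiplicative M) := chC b (g₁ ≫ u)
  -- the doubled group algebra
  let N2 := Multiplicative M × Multiplicative M
  let C₂ : CommRingCat.{u} := CommRingCat.of (MonoidAlgebra R N2)
  let θ₂ : R ⟶ C₂ := CommRingCat.ofHom (algebraMap R (MonoidAlgebra R N2))
  let s₂ : Spec C₂ ⟶ W := Spec.map θ₂ ≫ s₀
  let f1 : Multiplicative M →* N2 := MonoidHom.inl _ _
  let f2 : Multiplicative M →* N2 := MonoidHom.inr _ _
  let f3 : Multiplicative M →* N2 := (MonoidHom.id _).prod (MonoidHom.id _)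
  have hstr : ∀ f : Multiplicative M →* N2,
      Spec.map (CommRingCat.ofHom (MonoidAlgebra.mapDomainRingHom R f)) ≫ s₁ = s₂ := by
    intro f
    change Spec.map _ ≫ Spec.map θ₁ ≫ s₀ = Spec.map θ₂ ≫ s₀
    rw [← Category.assoc, ← Spec.map_comp]
    congr 2
    refine CommRingCat.hom_ext ?_
    exact MonoidAlgebra.mapDomainRingHom_comp_algebraMap (R := R) (A := R) f
  let hpt : (Multiplicative M →* N2) → (Over.mk s₂ ⟶ G) := fun f =>
    bcHom s₁ s₂ (CommRingCat.ofHom (MonoidAlgebra.mapDomainRingHom R f)) (hstr f) ≫ g₁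
  have hch : ∀ (f : Multiplicative M →* N2) (m : Multiplicative M),
      chC a (hpt f) m = MonoidAlgebra.single (f m) 1 := by
    intro f m
    change chC a (bcHom s₁ s₂ _ (hstr f) ≫ g₁) m = _
    rw [chC_bcHom, hg₁]
    change MonoidAlgebra.mapDomainRingHom R f (MonoidAlgebra.single m 1) = _
    rw [MonoidAlgebra.mapDomainRingHom_apply, MonoidAlgebra.mapDomain_single]
  have h3 : hpt f3 = hpt f1 * hpt f2 := by
    apply chC_injective a
    intro m
    rw [chC_mul, hch, hch, hch, MonoidAlgebra.single_mul_single, _root_.mul_one]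
    congr 1
    refine Prod.ext ?_ ?_
    · change m = m * 1
      exact (_root_.mul_one m).symm
    · change m = 1 * m
      exact (_root_.one_mul m).symm
  have hF : ∀ (f : Multiplicative M →* N2) (n : Multiplicative N),
      chC b (hpt f ≫ u) n = MonoidAlgebra.mapDomainRingHom R f (X n) := by
    intro f n
    change chC b ((bcHom s₁ s₂ _ (hstr f) ≫ g₁) ≫ u) n = _
    rw [Category.assoc, chC_bcHom]
    rfl
  -- the counit
  let ψ₀ : C₁ ⟶ R := CommRingCat.ofHom
    (MonoidAlgebra.lift R R (Multiplicative M) (1 : Multiplicative M →* R)).toRingHom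
  have hψ₀θ : θ₁ ≫ ψ₀ = 𝟙 R := by
    refine CommRingCat.hom_ext (RingHom.ext fun c => ?_)
    change MonoidAlgebra.lift R R (Multiplicative M) 1 (algebraMap R _ c) = c
    rw [AlgHom.commutes]
    rfl
  have hψ₀s : Spec.map ψ₀ ≫ s₁ = s₀ := by
    change Spec.map ψ₀ ≫ Spec.map θ₁ ≫ s₀ = s₀
    rw [← Category.assoc, ← Spec.map_comp, hψ₀θ, Spec.map_id, Category.id_comp]
  have hg₀ : bcHom s₁ s₀ ψ₀ hψ₀s ≫ g₁ = 1 := by
    apply chC_injective a
    intro m
    rw [chC_bcHom, hg₁, chC_one]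
    change MonoidAlgebra.lift R R (Multiplicative M) 1 (MonoidAlgebra.of R _ m) = 1
    rw [MonoidAlgebra.lift_of]
    rfl
  have hX : ∀ n, IsGL (X n) := by
    intro n
    refine ⟨?_, ?_⟩
    · have h4 : (hpt f1 * hpt f2) ≫ u = (hpt f1 ≫ u) * (hpt f2 ≫ u) := MonObj.mul_comp _ _ u
      have h5 := hF f3 n
      rw [h3, h4, chC_mul, hF, hF] at h5
      exact h5.symm
    · have h4 : chC b ((bcHom s₁ s₀ ψ₀ hψ₀s ≫ g₁) ≫ u) n = 1 := by
        rw [hg₀, MonObj.one_comp, chC_one]
      rw [Category.assoc, chC_bcHom] at h4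
      exact h4
  have hfg : Monoid.FG (Multiplicative N) :=
    AddMonoid.fg_iff_mul_fg.1 (AddGroup.fg_iff_addMonoid_fg.1 hN)
  obtain ⟨e, φ', he, hid, hφ'⟩ := exists_locConst hfg X hX p.asIdeal
  refine ⟨e, AddMonoidHom.toMultiplicative.symm φ', he, hid, ?_⟩
  intro C θ hθ g n
  letI : Algebra R C := θ.hom.toAlgebra
  let ψ : C₁ ⟶ C := CommRingCat.ofHom
    (MonoidAlgebra.lift R C (Multiplicative M) (chC a g)).toRingHom
  have hψθ : θ₁ ≫ ψ = θ := by
    refine CommRingCat.hom_ext (RingHom.ext fun c => ?_)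
    change MonoidAlgebra.lift R C (Multiplicative M) (chC a g) (algebraMap R _ c) = θ.hom c
    rw [AlgHom.commutes]
    rfl
  have hψs : Spec.map ψ ≫ s₁ = Spec.map θ ≫ s₀ := by
    change Spec.map ψ ≫ Spec.map θ₁ ≫ s₀ = _
    rw [← Category.assoc, ← Spec.map_comp, hψθ]
  have hg : bcHom s₁ (Spec.map θ ≫ s₀) ψ hψs ≫ g₁ = g := by
    apply chC_injective a
    intro m
    rw [chC_bcHom, hg₁]
    change MonoidAlgebra.lift R C (Multiplicative M) (chC a g) (MonoidAlgebra.of R _ m) = _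
    rw [MonoidAlgebra.lift_of]
  have h6 : chC b (g ≫ u) n = MonoidAlgebra.lift R C (Multiplicative M) (chC a g) (X n) := by
    have h7 : chC b ((bcHom s₁ (Spec.map θ ≫ s₀) ψ hψs ≫ g₁) ≫ u) n = ψ.hom (X n) := by
      rw [Category.assoc, chC_bcHom]
    rw [hg] at h7
    exact h7
  rw [h6, hφ' (C := C) hθ (chC a g) n]
  rfl

omit [IsMonHom u] in
/-- pointwise form of the conclusion of `core` -/
theorem pt_eq {R : CommRingCat.{u}} (s₀ : Spec R ⟶ W) (φ : N →+ M) {C : CommRingCat.{u}}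
    (θ : R ⟶ C) (g : Over.mk (Spec.map θ ≫ s₀) ⟶ G)
    (h : ∀ n : Multiplicative N,
      chC b (g ≫ u) n = chC a g (Multiplicative.ofAdd (φ n.toAdd))) :
    g ≫ u ≫ eh b = g ≫ eh a ≫ Red.DSmap W φ := by
  apply chr_injective
  refine MonoidHom.ext fun n => ?_
  have h1 := h n
  rw [chC_apply, chC_apply] at h1
  have h2 := (ConcreteCategory.bijective_of_isIso (Scheme.ΓSpecIso C).hom).1 h1
  rw [← Category.assoc, h2, ← Category.assoc g, chr_comp_DSmap]
  rfl

omit [IsMonHom u] in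
theorem eq_of_factor {R : CommRingCat.{u}} (s₀ : Spec R ⟶ W) (e : R) (φ : N →+ M)
    (hid : IsIdempotentElem e)
    (hcore : ∀ (C : CommRingCat.{u}) (θ : R ⟶ C), θ.hom e = 1 →
      ∀ (g : Over.mk (Spec.map θ ≫ s₀) ⟶ G) (n : Multiplicative N),
        chC b (g ≫ u) n = chC a g (Multiplicative.ofAdd (φ n.toAdd)))
    {Y : Over W} (k : Y.left ⟶ Spec (CommRingCat.of (Localization.Away e)))
    (hk : k ≫ Spec.map (CommRingCat.ofHom (algebraMap R (Localization.Away e))) ≫ s₀ = Y.hom)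
    (ε : Y ⟶ G) : ε ≫ u ≫ eh b = ε ≫ eh a ≫ Red.DSmap W φ := by
  apply Over.OverMorphism.ext
  apply Scheme.hom_ext_of_forall
  intro y
  obtain ⟨_, ⟨V, hV, rfl⟩, hyV, -⟩ := Y.left.isBasis_affineOpens.exists_subset_of_mem_open
    (Set.mem_univ y) isOpen_univ
  refine ⟨V, hyV, ?_⟩
  let θ' : CommRingCat.of (Localization.Away e) ⟶ Γ(Y.left, V) := Spec.preimage (hV.fromSpec ≫ k)
  have hθ' : Spec.map θ' = hV.fromSpec ≫ k := Spec.map_preimage _
  let θ : R ⟶ Γ(Y.left, V) := CommRingCat.ofHom (algebraMap R (Localization.Away e)) ≫ θ'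
  have hθe : θ.hom e = 1 := by
    have h1 : algebraMap R (Localization.Away e) e = 1 :=
      ((IsIdempotentElem.iff_eq_one_of_isUnit (IsLocalization.Away.algebraMap_isUnit e)).1
        (hid.map (algebraMap R (Localization.Away e))))
    change θ'.hom (algebraMap R (Localization.Away e) e) = 1
    rw [h1, map_one]
  have hs : Spec.map θ ≫ s₀ = hV.fromSpec ≫ Y.hom := by
    rw [← hk, Spec.map_comp, hθ', Category.assoc, Category.assoc]
  let g : Over.mk (Spec.map θ ≫ s₀) ⟶ G := Over.homMk (hV.fromSpec ≫ ε.left) (by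
    change (hV.fromSpec ≫ ε.left) ≫ G.hom = Spec.map θ ≫ s₀
    rw [Category.assoc, Over.w ε, hs])
  have key := pt_eq a b u s₀ φ θ g (hcore _ θ hθe g)
  have key' : hV.fromSpec ≫ (ε ≫ u ≫ eh b).left = hV.fromSpec ≫ (ε ≫ eh a ≫ Red.DSmap W φ).left :=
    congrArg (fun f => f.left) key
  rw [← hV.isoSpec_hom_fromSpec, Category.assoc, Category.assoc, key']

omit [IsMonHom u] in
theorem map_eq_of_core {R : CommRingCat.{u}} (s₀ : Spec R ⟶ W) (e : R) (φ : N →+ M)
    (hid : IsIdempotentElem e)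
    (hcore : ∀ (C : CommRingCat.{u}) (θ : R ⟶ C), θ.hom e = 1 →
      ∀ (g : Over.mk (Spec.map θ ≫ s₀) ⟶ G) (n : Multiplicative N),
        chC b (g ≫ u) n = chC a g (Multiplicative.ofAdd (φ n.toAdd))) :
    (Over.pullback (Spec.map (CommRingCat.ofHom (algebraMap R (Localization.Away e))) ≫ s₀)).map
        (u ≫ eh b) =
      (Over.pullback (Spec.map (CommRingCat.ofHom (algebraMap R (Localization.Away e))) ≫ s₀)).map
        (eh a ≫ Red.DSmap W φ) := by
  set j := Spec.map (CommRingCat.ofHom (algebraMap R (Localization.Away e))) ≫ s₀ with hj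
  apply tr_injective j (Red.DS W N)
  have htr : ∀ w : G ⟶ Red.DS W N, tr j (Red.DS W N) ((Over.pullback j).map w) =
      tr j G (𝟙 _) ≫ w := by
    intro w
    have := tr_comp_map j (𝟙 (Red.bc j G)) w
    rwa [Category.id_comp] at this
  rw [htr, htr]
  exact eq_of_factor a b u s₀ e φ hid hcore (Y := (Over.map j).obj (Red.bc j G))
    (Red.bc j G).hom rfl _

end Core

end Groth.Agent.H3.HomDiag
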