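import Mathlib
import Groth.Prelude.Def_Red2
import Groth.Agent.Lib.Helper3.RigidAct
import Groth.Agent.Lib.Helper3.DSKit
import Groth.Agent.Lib.Helper3.UnivEffEpi
import Groth.Agent.Lib.Helper3.HomDiag.Alg
import Groth.Agent.Lib.Helper3.HomDiag.BC

/-! Properties of `D_S(φ)` in terms of `φ` (helper3). -/

set_option autoImplicit false

universe u

open CategoryTheory MonoidalCategory CartesianMonoidalCategory MonObj GrpObj AlgebraicGeometry Limits
open Groth.Agent.H3.RigidAct Groth.Agent.H3.DSKit Groth.Agent.H4.GaGm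

namespace Groth.Agent.H3.HomDiag

section PQ1

variable {M N : Type} [AddCommGroup M] [AddCommGroup N] (T : Scheme.{u}) (φ : N →+ M)

theorem diagMap_left (R : Type u) [CommRing R] :
    (Red.diagMap R φ).left = Spec.map (CommRingCat.ofHom
      (MonoidAlgebra.mapDomainRingHom R (AddMonoidHom.toMultiplicative φ))) := rfl

/-- any base-change-stable property of `D_ℤ(φ)` passes to `D_T(φ)`. -/
theorem prop_DSmap (P : MorphismProperty Scheme.{u}) [P.IsStableUnderBaseChange]
    (h : P (Red.diagMap (ULift.{u} ℤ) φ).left) : P (Red.DSmap T φ).left := by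
  unfold Red.DSmap
  exact P.of_isPullback (Groth.Agent.H3.isPullback_overPullback_map
    (Limits.IsTerminal.from specULiftZIsTerminal T) (Red.diagMap (ULift.{u} ℤ) φ)).flip h

theorem mono_DSmap_of_surjective (hφ : Function.Surjective φ) : Mono (Red.DSmap T φ).left := by
  apply prop_DSmap T φ (MorphismProperty.monomorphisms Scheme.{u})
  rw [diagMap_left]
  have : IsClosedImmersion (Spec.map (CommRingCat.ofHom
      (MonoidAlgebra.mapDomainRingHom (ULift.{u} ℤ) (AddMonoidHom.toMultiplicative φ)))) :=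
    IsClosedImmersion.spec_of_surjective _
      (mapDomain_surjective_of_surjective (R := ULift.{u} ℤ) (AddMonoidHom.toMultiplicative φ) hφ)
  have hp : IsPreimmersion (Spec.map (CommRingCat.ofHom
      (MonoidAlgebra.mapDomainRingHom (ULift.{u} ℤ) (AddMonoidHom.toMultiplicative φ)))) := inferInstance
  have hm : Mono (Spec.map (CommRingCat.ofHom
      (MonoidAlgebra.mapDomainRingHom (ULift.{u} ℤ) (AddMonoidHom.toMultiplicative φ)))) := inferInstance
  exact hm

theorem ff_DSmap_of_injective (hφ : Function.Injective φ) :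
    Flat (Red.DSmap T φ).left ∧ Surjective (Red.DSmap T φ).left := by
  have h := (flat_and_surjective_SpecMap_iff (CommRingCat.ofHom
      (MonoidAlgebra.mapDomainRingHom (ULift.{u} ℤ) (AddMonoidHom.toMultiplicative φ)))).2
    (faithfullyFlat_of_injective (R := ULift.{u} ℤ) (AddMonoidHom.toMultiplicative φ) hφ)
  exact ⟨prop_DSmap T φ @Flat h.1, prop_DSmap T φ @Surjective h.2⟩

theorem DSmap_id : Red.DSmap T (AddMonoidHom.id M) = 𝟙 _ := by
  unfold Red.DSmap
  have : Red.diagMap (ULift.{u} ℤ) (AddMonoidHom.id M) = 𝟙 _ := by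
    apply Over.OverMorphism.ext
    rw [diagMap_left]
    have : MonoidAlgebra.mapDomainRingHom (ULift.{u} ℤ)
        (AddMonoidHom.toMultiplicative (AddMonoidHom.id M)) = RingHom.id _ :=
      MonoidAlgebra.mapDomainRingHom_id
    rw [this]
    exact Spec.map_id _
  rw [this]
  exact CategoryTheory.Functor.map_id _ _

theorem isIso_DSmap_of_bijective (hφ : Function.Bijective φ) : IsIso (Red.DSmap T φ).left := by
  let ψ : M →+ N := (AddEquiv.ofBijective φ hφ).symm.toAddMonoidHom
  have h1 : φ.comp ψ = AddMonoidHom.id M := by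
    ext m
    exact (AddEquiv.ofBijective φ hφ).apply_symm_apply m
  have h2 : ψ.comp φ = AddMonoidHom.id N := by
    ext n
    exact (AddEquiv.ofBijective φ hφ).symm_apply_apply n
  have e1 : Red.DSmap T φ ≫ Red.DSmap T ψ = 𝟙 _ := by
    rw [← DSmap_comp, h1, DSmap_id]
  have e2 : Red.DSmap T ψ ≫ Red.DSmap T φ = 𝟙 _ := by
    rw [← DSmap_comp, h2, DSmap_id]
  have : IsIso (Red.DSmap T φ) := ⟨Red.DSmap T ψ, e1, e2⟩
  exact (Over.forget T).map_isIso (Red.DSmap T φ)

end PQ1

section PQ2

variable {M N : Type} [AddCommGroup M] [AddCommGroup N] {T : Scheme.{u}}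

/-- characters of points of `D_T(M)` over affine test objects. -/
noncomputable abbrev chD {C : CommRingCat.{u}} {s : Spec C ⟶ T} (g : Over.mk s ⟶ Red.DS T M) :
    Multiplicative M →* C :=
  chC (Iso.refl (Grp.mk (Red.DS T M))) g

theorem chD_DSmap (φ : N →+ M) {C : CommRingCat.{u}} {s : Spec C ⟶ T}
    (g : Over.mk s ⟶ Red.DS T M) (n : Multiplicative N) :
    chD (g ≫ Red.DSmap T φ) n = chD g (AddMonoidHom.toMultiplicative φ n) := by
  change (Scheme.ΓSpecIso C).hom.hom (chr ((g ≫ Red.DSmap T φ) ≫ 𝟙 _) n) =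
    (Scheme.ΓSpecIso C).hom.hom (chr (g ≫ 𝟙 _) (AddMonoidHom.toMultiplicative φ n))
  rw [Category.comp_id, Category.comp_id, chr_comp_DSmap]

theorem DSmap_injective [Nonempty T] {φ ψ : N →+ M} (h : Red.DSmap T φ = Red.DSmap T ψ) :
    φ = ψ := by
  obtain ⟨x⟩ := ‹Nonempty T›
  let K : CommRingCat.{u} := T.residueField x
  let C : CommRingCat.{u} := CommRingCat.of (MonoidAlgebra K (Multiplicative M))
  let s : Spec C ⟶ T := Spec.map (CommRingCat.ofHom (algebraMap K (MonoidAlgebra K (Multiplicative M)))) ≫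
    T.fromSpecResidueField x
  obtain ⟨g, hg⟩ := chC_surjective (Iso.refl (Grp.mk (Red.DS T M))) s
    (MonoidAlgebra.of K (Multiplicative M))
  ext n
  have h1 := chD_DSmap φ g (Multiplicative.ofAdd n)
  have h2 := chD_DSmap ψ g (Multiplicative.ofAdd n)
  rw [h] at h1
  rw [h1] at h2
  change chC _ g _ = chC _ g _ at h2
  rw [hg, hg] at h2
  have h3 := MonoidAlgebra.of_injective h2
  exact Multiplicative.ofAdd.injective h3

theorem surjective_of_mono_DSmap [Nonempty T] (φ : N →+ M) (h : Mono (Red.DSmap T φ).left) :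
    Function.Surjective φ := by
  obtain ⟨x⟩ := ‹Nonempty T›
  have hm : Mono (Red.DSmap T φ) := Over.mono_of_mono_left _
  let K : CommRingCat.{u} := T.residueField x
  let Q := M ⧸ φ.range
  let C : CommRingCat.{u} := CommRingCat.of (MonoidAlgebra K (Multiplicative Q))
  let s : Spec C ⟶ T := Spec.map (CommRingCat.ofHom (algebraMap K (MonoidAlgebra K (Multiplicative Q)))) ≫
    T.fromSpecResidueField x
  obtain ⟨g, hg⟩ := chC_surjective (Iso.refl (Grp.mk (Red.DS T M))) s
    ((MonoidAlgebra.of K (Multiplicative Q)).comp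
      (AddMonoidHom.toMultiplicative (QuotientAddGroup.mk' φ.range)))
  have hmh : IsMonHom (Red.DSmap T φ) := isMonHom_DSmap T φ
  have h1 : g ≫ Red.DSmap T φ = 1 ≫ Red.DSmap T φ := by
    apply chC_injective (Iso.refl (Grp.mk (Red.DS T N)))
    intro n
    have e1 := chD_DSmap φ g n
    change chC _ _ n = chC _ g _ at e1
    have e2 : (1 : Over.mk s ⟶ Red.DS T M) ≫ Red.DSmap T φ = 1 :=
      @MonObj.one_comp _ _ _ _ _ _ _ _ (Red.DSmap T φ) hmh
    rw [e1, hg, e2, chC_one]
    change MonoidAlgebra.of K (Multiplicative Q)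
      (Multiplicative.ofAdd (QuotientAddGroup.mk' φ.range (φ n.toAdd))) = 1
    have : QuotientAddGroup.mk' φ.range (φ n.toAdd) = 0 :=
      (QuotientAddGroup.eq_zero_iff _).2 ⟨_, rfl⟩
    rw [this]
    rfl
  have h2 : g = 1 := (cancel_mono (Red.DSmap T φ)).1 h1
  intro m
  have h3 := hg (Multiplicative.ofAdd m)
  rw [h2, chC_one] at h3
  have h4 : MonoidAlgebra.of K (Multiplicative Q) 1 =
      MonoidAlgebra.of K (Multiplicative Q)
        (Multiplicative.ofAdd (QuotientAddGroup.mk' φ.range m)) := by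
    rw [map_one]
    exact h3
  have h5 := MonoidAlgebra.of_injective h4
  have h6 : QuotientAddGroup.mk' φ.range m = 0 := (Multiplicative.ofAdd.injective h5).symm
  exact (QuotientAddGroup.eq_zero_iff _).1 h6

theorem injective_of_ff_DSmap [Nonempty T] (φ : N →+ M)
    (h : Flat (Red.DSmap T φ).left ∧ Surjective (Red.DSmap T φ).left) :
    Function.Injective φ := by
  obtain ⟨hfl, hsu⟩ := h
  have he : Epi (Red.DSmap T φ).left := Flat.epi_of_flat_of_surjective _
  have he' : Epi (Red.DSmap T φ) := Over.epi_of_epi_left _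
  rw [injective_iff_map_eq_zero]
  intro n hn
  have h1 : Red.DSmap T φ ≫ Red.DSmap T (zmultiplesHom N n) =
      Red.DSmap T φ ≫ Red.DSmap T (0 : ℤ →+ N) := by
    rw [← DSmap_comp, ← DSmap_comp]
    congr 1
    ext
    simp [hn]
  have h2 := (cancel_epi (Red.DSmap T φ)).1 h1
  have h3 := DSmap_injective h2
  have h4 := DFunLike.congr_fun h3 1
  simpa using h4

theorem bijective_of_isIso_DSmap [Nonempty T] (φ : N →+ M) (h : IsIso (Red.DSmap T φ).left) :
    Function.Bijective φ := by
  have h1 : Flat (Red.DSmap T φ).left := inferInstance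
  have h2 : Surjective (Red.DSmap T φ).left := inferInstance
  have h3 : Mono (Red.DSmap T φ).left := inferInstance
  exact ⟨injective_of_ff_DSmap φ ⟨h1, h2⟩, surjective_of_mono_DSmap φ h3⟩

end PQ2

end Groth.Agent.H3.HomDiag
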