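import Mathlib
import Groth.Agent.Lib.Helper3.FpqcLocal3
import Groth.Agent.Lib.Helper3.UnivEffEpi

/-! fpqc covering sieves: construction from covering data, descent of openness and of
morphism properties (helper3). -/

set_option autoImplicit false

universe u

open CategoryTheory Limits MorphismProperty AlgebraicGeometry

namespace Groth.Agent.H3.HomDiag

open Scheme

/-- A sieve which contains, Zariski-locally on the source of an fpqc covering (in the sense of
`Red.IsTorus` / `SGA3x.IsMultTypeFT`), the covering map, is a covering sieve for the fpqc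
topology. -/
theorem mem_fpqc_of_cover {S S' : Scheme.{u}} (f : S' ⟶ S) [Flat f] (hsurj : Surjective f)
    (hqc : ∀ V : S.Opens, IsAffineOpen V → ∃ W : S'.Opens, IsCompact (W : Set S') ∧
      f.base '' (W : Set S') = (V : Set S))
    (𝒯 : Sieve S) (h : ∀ s' : S', ∃ U : S'.Opens, s' ∈ U ∧ 𝒯 (U.ι ≫ f)) :
    𝒯 ∈ Scheme.fpqcTopology S := by
  let J := {A : S'.affineOpens // 𝒯 (A.1.ι ≫ f)}
  have hbasis : ∀ (s' : S') (O : S'.Opens), s' ∈ O → ∃ A : J, s' ∈ A.1.1 ∧ A.1.1 ≤ O := by
    intro s' O hs'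
    obtain ⟨U, hU1, hU2⟩ := h s'
    obtain ⟨_, ⟨A, hA, rfl⟩, hsA, hAU⟩ := S'.isBasis_affineOpens.exists_subset_of_mem_open
      (show s' ∈ ((U ⊓ O : S'.Opens) : Set S') from ⟨hU1, hs'⟩) (U ⊓ O).2
    have hAU' : A ≤ U := fun x hx => (hAU hx).1
    refine ⟨⟨⟨A, hA⟩, ?_⟩, hsA, fun x hx => (hAU hx).2⟩
    have : Scheme.Opens.ι A ≫ f = S'.homOfLE hAU' ≫ U.ι ≫ f := by
      rw [← Category.assoc, Scheme.homOfLE_ι]
    change 𝒯 (Scheme.Opens.ι A ≫ f)
    rw [this]
    exact 𝒯.downward_closed hU2 _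
  let 𝒰 : S.Cover (Scheme.precoverage @Flat) := Cover.mkOfCovers J (fun A => (A.1.1 : Scheme.{u}))
    (fun A => A.1.1.ι ≫ f)
    (by
      intro x
      obtain ⟨s', rfl⟩ := hsurj.surj x
      obtain ⟨A, hA, -⟩ := hbasis s' ⊤ trivial
      exact ⟨A, ⟨s', hA⟩, rfl⟩)
    (fun A => inferInstance)
  have : QuasiCompactCover 𝒰.toPreZeroHypercover := by
    constructor
    intro V hV
    obtain ⟨W, hWc, hWV⟩ := hqc V hV
    choose A hA1 hA2 using fun (s' : W) => hbasis s'.1 W s'.2
    obtain ⟨t, ht⟩ := hWc.elim_finite_subcover (fun s' : W => ((A s').1.1 : Set S'))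
      (fun s' => (A s').1.1.2) (fun x hx => Set.mem_iUnion.2 ⟨⟨x, hx⟩, hA1 ⟨x, hx⟩⟩)
    refine IsCompactOpenCovered.of_finite (κ := t) (fun k => A k.1) (fun k => ⊤) (fun k => ?_) ?_
    · have : IsAffine ((A k.1).1.1 : Scheme.{u}) := (A k.1).1.2
      have : CompactSpace ((A k.1).1.1 : Scheme.{u}) := inferInstance
      change IsCompact (Set.univ : Set ((A k.1).1.1 : Scheme.{u}))
      exact isCompact_univ
    · apply subset_antisymm
      · intro y hy
        simp only [Set.mem_iUnion] at hy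
        obtain ⟨k, z, -, rfl⟩ := hy
        rw [← hWV]
        exact ⟨z.1, hA2 k.1 z.2, rfl⟩
      · intro y hy
        rw [← hWV] at hy
        obtain ⟨x, hx, rfl⟩ := hy
        have := ht hx
        simp only [Set.mem_iUnion] at this
        obtain ⟨k, hk, hxk⟩ := this
        simp only [Set.mem_iUnion]
        exact ⟨⟨k, hk⟩, ⟨x, hxk⟩, trivial, rfl⟩
  have hmem := (Cover.ofQuasiCompactCover 𝒰).mem₀
  refine GrothendieckTopology.superset_covering _ ?_
    (Precoverage.generate_mem_toGrothendieck hmem)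
  rw [Sieve.generate_le_iff]
  rintro _ _ ⟨A⟩
  exact A.2

/-- every fpqc covering sieve contains a quasi-compact flat covering family -/
theorem exists_cover_of_mem {S : Scheme.{u}} {𝒯 : Sieve S} (h : 𝒯 ∈ Scheme.fpqcTopology S) :
    ∃ (𝒰 : Scheme.Cover.{u + 1} (Scheme.precoverage @Flat) S),
      QuasiCompactCover 𝒰.toPreZeroHypercover ∧ 𝒰.presieve₀ ∈ Scheme.fpqcPrecoverage S ∧
      ∀ i, 𝒯 (𝒰.f i) := by
  obtain ⟨R, hR, hle⟩ :=
    (Precoverage.mem_toGrothendieck_iff_of_isStableUnderComposition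
      (J := Scheme.fpqcPrecoverage)).1 h
  obtain ⟨𝒰, hqc, rfl⟩ := Scheme.mem_propQCPrecoverage_iff_exists_quasiCompactCover.1 hR
  exact ⟨𝒰, hqc, hR, fun i => hle _ _ (Presieve.ofArrows.mk i)⟩

/-- openness can be tested on an fpqc covering sieve -/
theorem isOpen_of_sieve {S : Scheme.{u}} {𝒯 : Sieve S} (h𝒯 : 𝒯 ∈ Scheme.fpqcTopology S) (A : Set S)
    (h : ∀ {T : Scheme.{u}} (t : T ⟶ S), 𝒯 t → IsOpen (t.base ⁻¹' A)) : IsOpen A := by
  obtain ⟨𝒰, hqc, -, h𝒰⟩ := exists_cover_of_mem h𝒯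
  rw [isOpen_iff_forall_mem_open]
  intro x hx
  obtain ⟨_, ⟨V, hV, rfl⟩, hxV, -⟩ := S.isBasis_affineOpens.exists_subset_of_mem_open
    (Set.mem_univ x) isOpen_univ
  obtain ⟨n, idx, Vi, hVi, hcov⟩ :=
    QuasiCompactCover.exists_isAffineOpen_of_isCompact 𝒰.1 (U := V) hV.isCompact
  let Y : Scheme.{u} := ∐ fun i : Fin n => ((Vi i : (𝒰.X (idx i)).Opens) : Scheme.{u})
  let q : Y ⟶ S := Sigma.desc fun i => (Vi i).ι ≫ 𝒰.f (idx i)
  have hιq : ∀ i, Sigma.ι (fun i : Fin n => ((Vi i : (𝒰.X (idx i)).Opens) : Scheme.{u})) i ≫ q =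
      (Vi i).ι ≫ 𝒰.f (idx i) := fun i => Sigma.ι_desc _ _
  have hex : ∀ y : Y, ∃ i z,
      Sigma.ι (fun i : Fin n => ((Vi i : (𝒰.X (idx i)).Opens) : Scheme.{u})) i z = y := fun y =>
    (sigmaOpenCover (fun i : Fin n => ((Vi i : (𝒰.X (idx i)).Opens) : Scheme.{u}))).exists_eq y
  have hq_mem : ∀ y : Y, q y ∈ (V : Set S) := by
    intro y
    obtain ⟨i, z, rfl⟩ := hex y
    rw [← Scheme.Hom.comp_apply, hιq, ← hcov]
    exact Set.mem_iUnion.2 ⟨i, ⟨z.1, z.2, rfl⟩⟩
  let p : Y ⟶ (Scheme.Opens.toScheme V) := IsOpenImmersion.lift (Scheme.Opens.ι V) q (by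
    rw [Scheme.Opens.range_ι]
    rintro _ ⟨y, rfl⟩
    exact hq_mem y)
  have hp : p ≫ (Scheme.Opens.ι V) = q := IsOpenImmersion.lift_fac _ _ _
  have hqflat : Flat q := by
    rw [IsZariskiLocalAtSource.iff_of_openCover (P := @Flat)
      (sigmaOpenCover (fun i : Fin n => ((Vi i : (𝒰.X (idx i)).Opens) : Scheme.{u})))]
    intro i
    change Flat (Sigma.ι (fun i : Fin n => ((Vi i : (𝒰.X (idx i)).Opens) : Scheme.{u})) i ≫ q)
    rw [hιq]
    have : Flat (𝒰.f (idx i)) := 𝒰.map_prop _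
    infer_instance
  have hpflat : Flat p := MorphismProperty.of_postcomp (W := @Flat) (W' := @IsOpenImmersion)
    p (Scheme.Opens.ι V) inferInstance (by rw [hp]; exact hqflat)
  have hpsurj : Surjective p := by
    refine ⟨fun v => ?_⟩
    have hv : ((Scheme.Opens.ι V) v) ∈ (V : Set S) := v.2
    rw [← hcov] at hv
    obtain ⟨i, z, hz, hzv⟩ := Set.mem_iUnion.1 hv
    refine ⟨Sigma.ι (fun i : Fin n => ((Vi i : (𝒰.X (idx i)).Opens) : Scheme.{u})) i ⟨z, hz⟩, ?_⟩
    apply (Scheme.Opens.ι V).isOpenEmbedding.injective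
    rw [← Scheme.Hom.comp_apply, hp, ← Scheme.Hom.comp_apply, hιq]
    exact hzv
  have : ∀ i, IsAffine ((Vi i : (𝒰.X (idx i)).Opens) : Scheme.{u}) := hVi
  have : IsAffine Y := inferInstance
  have : IsAffine (Scheme.Opens.toScheme V) := hV
  have : QuasiCompact p := inferInstance
  have hquot := Flat.isQuotientMap_of_surjective p
  have hB : ∀ (B : Set Y), (∀ i, IsOpen
      ((Sigma.ι (fun i : Fin n => ((Vi i : (𝒰.X (idx i)).Opens) : Scheme.{u})) i).base ⁻¹' B)) →
      IsOpen B := by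
    intro B hB
    have : B = ⋃ i, (Sigma.ι (fun i : Fin n => ((Vi i : (𝒰.X (idx i)).Opens) : Scheme.{u})) i).base ''
        ((Sigma.ι (fun i : Fin n => ((Vi i : (𝒰.X (idx i)).Opens) : Scheme.{u})) i).base ⁻¹' B) := by
      ext y
      constructor
      · intro hy
        obtain ⟨i, z, rfl⟩ := hex y
        exact Set.mem_iUnion.2 ⟨i, z, hy, rfl⟩
      · intro hy
        obtain ⟨i, z, hz, rfl⟩ := Set.mem_iUnion.1 hy
        exact hz
    rw [this]
    exact isOpen_iUnion fun i => (Sigma.ι (fun i : Fin n => ((Vi i : (𝒰.X (idx i)).Opens) : Scheme.{u})) i).isOpenEmbedding.isOpenMap _ (hB i)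
  have hopen : IsOpen ((Scheme.Opens.ι V).base ⁻¹' A) := by
    rw [← hquot.isOpen_preimage]
    apply hB
    intro i
    have : (Sigma.ι (fun i : Fin n => ((Vi i : (𝒰.X (idx i)).Opens) : Scheme.{u})) i).base ⁻¹'
        (p.base ⁻¹' ((Scheme.Opens.ι V).base ⁻¹' A)) = (Vi i).ι.base ⁻¹' ((𝒰.f (idx i)).base ⁻¹' A) := by
      ext z
      simp only [Set.mem_preimage]
      rw [← Scheme.Hom.comp_apply, hp, ← Scheme.Hom.comp_apply, hιq, Scheme.Hom.comp_apply]
    rw [this]
    exact (h _ (h𝒰 (idx i))).preimage (Vi i).ι.continuous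
  refine ⟨(Scheme.Opens.ι V).base '' ((Scheme.Opens.ι V).base ⁻¹' A), ?_, (Scheme.Opens.ι V).isOpenEmbedding.isOpenMap _ hopen, ?_⟩
  · rintro _ ⟨v, hv, rfl⟩
    exact hv
  · exact ⟨⟨x, hxV⟩, hx, rfl⟩

/-- a property which is fpqc-local on the target can be tested on an fpqc covering sieve of the
base -/
theorem prop_of_sieve (P : MorphismProperty Scheme.{u}) [P.IsLocalAtTarget Scheme.fpqcPrecoverage]
    {S : Scheme.{u}} {𝒯 : Sieve S} (h𝒯 : 𝒯 ∈ Scheme.fpqcTopology S) {X Y : Over S} (v : X ⟶ Y)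
    (h : ∀ {T : Scheme.{u}} (t : T ⟶ S), 𝒯 t → P ((Over.pullback t).map v).left) : P v.left := by
  obtain ⟨𝒰, hqc, hmem, h𝒰⟩ := exists_cover_of_mem h𝒯
  have hmem' : Presieve.ofArrows (fun i => pullback Y.hom (𝒰.f i))
      (fun i => pullback.fst Y.hom (𝒰.f i)) ∈ Scheme.fpqcPrecoverage Y.left :=
    Precoverage.mem_coverings_of_isPullback 𝒰.f hmem Y.hom (fun i => pullback.fst _ _)
      (fun i => pullback.snd _ _) (fun i => IsPullback.of_hasPullback _ _)
  refine IsLocalAtTarget.of_forall_pullbackSnd hmem' ?_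
  rintro U g _ ⟨i⟩
  have sq := Groth.Agent.H3.isPullback_overPullback_map (𝒰.f i) v
  have he : sq.flip.isoPullback.hom ≫ pullback.snd _ _ = ((Over.pullback (𝒰.f i)).map v).left :=
    sq.flip.isoPullback_hom_snd
  rw [← P.cancel_left_of_respectsIso sq.flip.isoPullback.hom, he]
  exact h _ (h𝒰 i)

/-- a sieve containing a family of open immersions covering the space is fpqc covering -/
theorem mem_fpqc_of_openCover {T : Scheme.{u}} (𝒯 : Sieve T)
    (h : ∀ x : T, ∃ (W : Scheme.{u}) (j : W ⟶ T), IsOpenImmersion j ∧ x ∈ Set.range j.base ∧ 𝒯 j) :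
    𝒯 ∈ Scheme.fpqcTopology T := by
  refine mem_fpqc_of_cover (𝟙 T) inferInstance ?_ 𝒯 ?_
  · intro V hV
    exact ⟨V, hV.isCompact, by simp⟩
  · intro x
    obtain ⟨W, j, hj, hx, hjT⟩ := h x
    refine ⟨j.opensRange, hx, ?_⟩
    rw [Category.comp_id]
    have : IsOpenImmersion.lift j j.opensRange.ι (by simp) ≫ j = j.opensRange.ι :=
      IsOpenImmersion.lift_fac _ _ _
    rw [← this]
    exact 𝒯.downward_closed hjT _

section PropSec

variable (P : MorphismProperty Scheme.{u}) {S T T' : Scheme.{u}}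

/-- `P` of a base change implies `P` of a further base change. -/
theorem prop_comp_of_prop [P.RespectsIso] [P.IsStableUnderBaseChange] (t' : T' ⟶ T) (t : T ⟶ S)
    {X Y : Over S} (v : X ⟶ Y) (h : P ((Over.pullback t).map v).left) :
    P ((Over.pullback (t' ≫ t)).map v).left := by
  have nat := (Over.pullbackComp t' t).hom.naturality v
  have nat' : ((Over.pullback (t' ≫ t)).map v).left ≫ ((Over.pullbackComp t' t).hom.app Y).left =
      ((Over.pullbackComp t' t).hom.app X).left ≫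
        ((Over.pullback t').map ((Over.pullback t).map v)).left := congrArg (fun f => f.left) nat
  have i1 : IsIso ((Over.pullbackComp t' t).hom.app Y).left :=
    (Over.forget T').map_isIso ((Over.pullbackComp t' t).hom.app Y)
  have i2 : IsIso ((Over.pullbackComp t' t).hom.app X).left :=
    (Over.forget T').map_isIso ((Over.pullbackComp t' t).hom.app X)
  rw [← P.cancel_right_of_respectsIso _ ((Over.pullbackComp t' t).hom.app Y).left, nat',
    P.cancel_left_of_respectsIso]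
  exact P.of_isPullback (Groth.Agent.H3.isPullback_overPullback_map t' ((Over.pullback t).map v)).flip h

/-- converse of `prop_comp_of_prop`, used for descent. -/
theorem prop_of_prop_comp [P.RespectsIso] (t' : T' ⟶ T) (t : T ⟶ S)
    {X Y : Over S} (v : X ⟶ Y) (h : P ((Over.pullback (t' ≫ t)).map v).left) :
    P ((Over.pullback t').map ((Over.pullback t).map v)).left := by
  have nat := (Over.pullbackComp t' t).hom.naturality v
  have nat' : ((Over.pullback (t' ≫ t)).map v).left ≫ ((Over.pullbackComp t' t).hom.app Y).left =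
      ((Over.pullbackComp t' t).hom.app X).left ≫
        ((Over.pullback t').map ((Over.pullback t).map v)).left := congrArg (fun f => f.left) nat
  have i1 : IsIso ((Over.pullbackComp t' t).hom.app Y).left :=
    (Over.forget T').map_isIso ((Over.pullbackComp t' t).hom.app Y)
  have i2 : IsIso ((Over.pullbackComp t' t).hom.app X).left :=
    (Over.forget T').map_isIso ((Over.pullbackComp t' t).hom.app X)
  rw [← P.cancel_left_of_respectsIso ((Over.pullbackComp t' t).hom.app X).left, ← nat',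
    P.cancel_right_of_respectsIso]
  exact h

/-- descent along a single fpqc morphism. -/
theorem prop_of_prop_comp_fpqc [P.IsLocalAtTarget Scheme.fpqcPrecoverage]
    [P.IsStableUnderBaseChange] (t' : T' ⟶ T) [Flat t'] [Surjective t'] [QuasiCompact t']
    (t : T ⟶ S) {X Y : Over S} (v : X ⟶ Y) (h : P ((Over.pullback (t' ≫ t)).map v).left) :
    P ((Over.pullback t).map v).left := by
  have hmem : Sieve.generate (Presieve.singleton t') ∈ Scheme.fpqcTopology T :=
    Precoverage.generate_mem_toGrothendieck (Scheme.Hom.singleton_mem_fpqcPrecoverage t')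
  refine prop_of_sieve P hmem ((Over.pullback t).map v) ?_
  rintro T'' t'' ⟨Z, r, _, ⟨⟩, rfl⟩
  exact prop_comp_of_prop P r t' _ (prop_of_prop_comp P t' t v h)

end PropSec

end Groth.Agent.H3.HomDiag
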