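import Mathlib
import Groth.Prelude.Def_Red2
import Groth.Agent.Lib.Helper3.HomDiag.BC
import Groth.Agent.Lib.Helper3.HomDiag.Sieve
import Groth.Agent.Lib.Helper3.HomDiag.Core
import Groth.Agent.Lib.Helper3.HomDiag.PQ

/-! Homomorphisms between fpqc-locally diagonalisable groups are fpqc-locally of the form `D(φ)`;
the master theorem on fibrewise loci (helper3). -/

set_option autoImplicit false

universe u

open CategoryTheory MonoidalCategory CartesianMonoidalCategory MonObj GrpObj AlgebraicGeometry Limits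
open Groth.Agent.H3.RigidAct

namespace Groth.Agent.H3.HomDiag

section Sieves

variable {S : Scheme.{u}}

/-- the sieve of base changes over which `G` becomes diagonalisable with character group
satisfying `Pr`. -/
def trivSieve (Pr : ∀ (M : Type) [AddCommGroup M], Prop) (G : Over S) [GrpObj G] : Sieve S where
  arrows T t := ∃ (M : Type) (_ : AddCommGroup M), Pr M ∧
    Nonempty (Grp.mk (Red.bc t G) ≅ Grp.mk (Red.DS T M))
  downward_closed := by
    rintro T T' t ⟨M, _, hM, ⟨a⟩⟩ t'
    exact ⟨M, _, hM, ⟨trivBC t' t a⟩⟩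

/-- the sieve of base changes over which `u` is of the form `D(φ)`. -/
def locFormSieve {G H : Over S} [GrpObj G] [GrpObj H] (u : G ⟶ H) : Sieve S where
  arrows T t := ∃ (M N : Type) (_ : AddCommGroup M) (_ : AddCommGroup N) (φ : N →+ M),
    LocForm u t φ
  downward_closed := by
    rintro T T' t ⟨M, N, _, _, φ, h⟩ t'
    exact ⟨M, N, _, _, φ, h.precomp t'⟩

theorem LocForm.prop_iff (P : MorphismProperty Scheme.{u}) [P.RespectsIso] {T : Scheme.{u}}
    {G H : Over S} [GrpObj G] [GrpObj H] {u : G ⟶ H} {t : T ⟶ S}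
    {M N : Type} [AddCommGroup M] [AddCommGroup N] {φ : N →+ M} (h : LocForm u t φ) :
    P ((Over.pullback t).map u).left ↔ P (Red.DSmap T φ).left := by
  obtain ⟨a, b, hab⟩ := h
  have hab' : ((Over.pullback t).map u).left ≫ b.hom.hom.hom.left =
      a.hom.hom.hom.left ≫ (Red.DSmap T φ).left := congrArg (fun f => f.left) hab
  have ia' : IsIso a.hom.hom.hom := ⟨a.inv.hom.hom, grp_hom_inv a, grp_inv_hom a⟩
  have ib' : IsIso b.hom.hom.hom := ⟨b.inv.hom.hom, grp_hom_inv b, grp_inv_hom b⟩
  have ia : IsIso a.hom.hom.hom.left := (Over.forget T).map_isIso a.hom.hom.hom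
  have ib : IsIso b.hom.hom.hom.left := (Over.forget T).map_isIso b.hom.hom.hom
  rw [← P.cancel_right_of_respectsIso _ b.hom.hom.hom.left, hab', P.cancel_left_of_respectsIso]

/-- **Local structure of homomorphisms.** -/
theorem locFormSieve_mem {G H : Over S} [GrpObj G] [GrpObj H] (u : G ⟶ H) [IsMonHom u]
    (hG : trivSieve (fun _ _ => True) G ∈ Scheme.fpqcTopology S)
    (hH : trivSieve (fun M _ => AddGroup.FG M) H ∈ Scheme.fpqcTopology S) :
    locFormSieve u ∈ Scheme.fpqcTopology S := by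
  refine GrothendieckTopology.transitive _ (GrothendieckTopology.intersection_covering _ hG hH) _ ?_
  rintro T t ⟨⟨M, _, -, ⟨a⟩⟩, ⟨N, _, hN, ⟨b⟩⟩⟩
  apply mem_fpqc_of_openCover
  intro x
  obtain ⟨_, ⟨V, hV, rfl⟩, hxV, -⟩ := T.isBasis_affineOpens.exists_subset_of_mem_open
    (Set.mem_univ x) isOpen_univ
  let R : CommRingCat.{u} := Γ(T, V)
  let s₀ : Spec R ⟶ T := hV.fromSpec
  obtain ⟨p, hp⟩ : ∃ p : PrimeSpectrum R, s₀ p = x := by
    have : x ∈ Set.range s₀.base := by
      rw [hV.range_fromSpec]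
      exact hxV
    exact this
  have hmon : IsMonHom ((Over.pullback t).map u) := inferInstance
  obtain ⟨e, φ, hep, hid, hcore⟩ := core a b ((Over.pullback t).map u) hN s₀ p
  let j : Spec (CommRingCat.of (Localization.Away e)) ⟶ T :=
    Spec.map (CommRingCat.ofHom (algebraMap R (Localization.Away e))) ≫ s₀
  refine ⟨_, j, inferInstance, ?_, ?_⟩
  · have hpe : p ∈ Set.range (Spec.map (CommRingCat.ofHom
        (algebraMap R (Localization.Away e)))).base := by
      have h1 := PrimeSpectrum.localization_away_comap_range (Localization.Away e) e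
      have h2 : p ∈ (PrimeSpectrum.basicOpen e : Set (PrimeSpectrum R)) := hep
      rw [← h1] at h2
      exact h2
    obtain ⟨q, hq⟩ := hpe
    exact ⟨q, by rw [Scheme.Hom.comp_apply, hq, hp]⟩
  · change locFormSieve u (j ≫ t)
    exact ⟨M, N, _, _, φ, LocForm.of_map_eq a b j (map_eq_of_core a b _ s₀ e φ hid hcore)⟩

end Sieves

section Master

variable {S : Scheme.{u}} {G H : Over S} [GrpObj G] [GrpObj H] (u : G ⟶ H)
  (P : MorphismProperty Scheme.{u}) [P.IsLocalAtTarget Scheme.fpqcPrecoverage]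
  [P.IsStableUnderBaseChange]
  (Q : ∀ {M N : Type} [AddCommGroup M] [AddCommGroup N], (N →+ M) → Prop)
  (hPQ1 : ∀ (T : Scheme.{u}) {M N : Type} [AddCommGroup M] [AddCommGroup N] (φ : N →+ M),
    Q φ → P (Red.DSmap T φ).left)
  (hPQ2 : ∀ (T : Scheme.{u}) [Nonempty T] {M N : Type} [AddCommGroup M] [AddCommGroup N]
    (φ : N →+ M), P (Red.DSmap T φ).left → Q φ)

theorem flat_residueFieldMap {T : Scheme.{u}} (t : T ⟶ S) (x : T) :
    Flat (Spec.map (t.residueFieldMap x)) := by
  rw [Flat.SpecMap_iff]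
  letI := (t.residueFieldMap x).hom.toAlgebra
  exact (inferInstance : Module.Flat (S.residueField (t x)) (T.residueField x))

theorem surjective_residueFieldMap {T : Scheme.{u}} (t : T ⟶ S) (x : T) :
    Surjective (Spec.map (t.residueFieldMap x)) := by
  refine ⟨fun y => ⟨(default : PrimeSpectrum (T.residueField x)), ?_⟩⟩
  exact Subsingleton.elim (α := PrimeSpectrum (S.residueField (t x))) _ _

include hPQ1 hPQ2 in
/-- fibre criterion on a chart -/
theorem fibre_iff {T : Scheme.{u}} {t : T ⟶ S} {M N : Type} [AddCommGroup M] [AddCommGroup N]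
    {φ : N →+ M} (hLF : LocForm u t φ) (x : T) :
    P ((Over.pullback (S.fromSpecResidueField (t x))).map u).left ↔ Q φ := by
  have hc : Spec.map (t.residueFieldMap x) ≫ S.fromSpecResidueField (t x) =
      T.fromSpecResidueField x ≫ t := Scheme.Hom.SpecMap_residueFieldMap_fromSpecResidueField t x
  have hLFc : LocForm u (T.fromSpecResidueField x ≫ t) φ := hLF.precomp _
  have h1 : P ((Over.pullback (T.fromSpecResidueField x ≫ t)).map u).left ↔ Q φ := by
    rw [hLFc.prop_iff P]
    exact ⟨hPQ2 _ φ, hPQ1 _ φ⟩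
  have := flat_residueFieldMap t x
  have := surjective_residueFieldMap t x
  constructor
  · intro h
    rw [← h1, ← hc]
    exact prop_comp_of_prop P _ _ u h
  · intro hQ
    have h2 := h1.2 hQ
    rw [← hc] at h2
    exact prop_of_prop_comp_fpqc P (Spec.map (t.residueFieldMap x)) _ u h2

include hPQ1 hPQ2 in
/-- **Master theorem**: the fibrewise locus of `P` is open and closed and `P` holds over it. -/
theorem master (hiso : ∀ {X Y : Scheme.{u}} (f : X ⟶ Y) [IsIso f], P f)
    (h𝒯 : locFormSieve u ∈ Scheme.fpqcTopology S) :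
    ∃ U : S.Opens, IsClosed (U : Set S) ∧
      (∀ s : S, s ∈ U ↔ P ((Over.pullback (S.fromSpecResidueField s)).map u).left) ∧
      P ((Over.pullback U.ι).map u).left := by
  let A : Set S := {s | P ((Over.pullback (S.fromSpecResidueField s)).map u).left}
  have hA : ∀ {T : Scheme.{u}} (t : T ⟶ S), locFormSieve u t →
      (t.base ⁻¹' A = Set.univ ∨ t.base ⁻¹' A = ∅) := by
    rintro T t ⟨M, N, _, _, φ, hLF⟩
    by_cases hQ : Q φ
    · left
      ext x
      simp only [Set.mem_preimage, Set.mem_univ, iff_true]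
      exact (fibre_iff u P Q hPQ1 hPQ2 hLF x).2 hQ
    · right
      ext x
      simp only [Set.mem_preimage, Set.mem_empty_iff_false, iff_false]
      exact fun h => hQ ((fibre_iff u P Q hPQ1 hPQ2 hLF x).1 h)
  have hopen : IsOpen A := isOpen_of_sieve h𝒯 A (fun t ht => by
    rcases hA t ht with h | h <;> rw [h] <;> simp)
  have hclosed : IsClosed A := ⟨isOpen_of_sieve h𝒯 Aᶜ (fun t ht => by
    rw [Set.preimage_compl]
    rcases hA t ht with h | h <;> rw [h] <;> simp)⟩
  refine ⟨⟨A, hopen⟩, hclosed, fun s => Iff.rfl, ?_⟩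
  refine prop_of_sieve P (GrothendieckTopology.pullback_stable _ (Scheme.Opens.ι ⟨A, hopen⟩) h𝒯)
    ((Over.pullback (Scheme.Opens.ι ⟨A, hopen⟩)).map u) ?_
  rintro T' t' ⟨M, N, _, _, φ, hLF⟩
  apply prop_of_prop_comp P t' (Scheme.Opens.ι ⟨A, hopen⟩) u
  rw [hLF.prop_iff P]
  by_cases hT' : Nonempty T'
  · obtain ⟨x⟩ := hT'
    apply hPQ1
    rw [← fibre_iff u P Q hPQ1 hPQ2 hLF x]
    exact (t' x).2
  · have h1 : IsEmpty T' := not_nonempty_iff.1 hT'
    have h2 : IsEmpty (Red.DS T' N).left := Function.isEmpty (Red.DS T' N).hom.base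
    exact hiso _

end Master

end Groth.Agent.H3.HomDiag
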