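import Mathlib
import Groth.Agent.Lib.Helper3.GrpQuot5
import Groth.Agent.Lib.Helper3.GrpQuot6

/-! Kernels give kernel pairs; uniqueness of quotient group objects (helper3). -/

set_option autoImplicit false

open CategoryTheory Limits MonoidalCategory CartesianMonoidalCategory MonObj

universe v₁ u₁

namespace Groth.Agent.H3.GrpQuot

variable {𝒮 : Type u₁} [Category.{v₁} 𝒮] [CartesianMonoidalCategory 𝒮]

section

variable {G H Q : 𝒮} [GrpObj G] [GrpObj H] [GrpObj Q] (u : H ⟶ G) [IsMonHom u]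
  (π : G ⟶ Q) [IsMonHom π]

/-- if `u` is the kernel of the homomorphism `π`, then `G ⊗ H ⇉ G` is the kernel pair of `π`. -/
theorem isKernelPair_of_isKernel [Mono u] (hk : IsPullback u (toUnit H) π η[Q]) :
    IsKernelPair π (fst G H) (mmul u) := by
  have huπ : u ≫ π = 1 := by rw [hk.w, Hom.one_def]
  have hw : fst G H ≫ π = mmul u ≫ π := by
    rw [mmul_eq, MonObj.mul_comp, Category.assoc, huπ, MonObj.comp_one, _root_.mul_one]
  have hker : ∀ {Y : 𝒮} (y₁ y₂ : Y ⟶ G), y₁ ≫ π = y₂ ≫ π →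
      (y₁⁻¹ * y₂) ≫ π = toUnit Y ≫ η[Q] := by
    intro Y y₁ y₂ h
    rw [← Hom.one_def, MonObj.mul_comp, GrpObj.inv_comp, h, inv_mul_cancel]
  refine IsPullback.of_isLimit' ⟨hw⟩ (PullbackCone.IsLimit.mk _
    (fun s => lift s.fst (hk.lift (s.fst⁻¹ * s.snd) (toUnit _) (hker _ _ s.condition))) ?_ ?_ ?_)
  · intro s
    exact lift_fst _ _
  · intro s
    rw [lift_mmul, hk.lift_fst, mul_inv_cancel_left]
  · intro s m h1 h2
    apply CartesianMonoidalCategory.hom_ext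
    · rw [lift_fst, h1]
    · rw [lift_snd, ← cancel_mono u, hk.lift_fst]
      rw [comp_mmul, h1] at h2
      rw [← h2, inv_mul_cancel_left]

end

section

variable [HasPullbacks 𝒮] {G H Q Q' : 𝒮} [GrpObj G] [GrpObj H] [GrpObj Q] [GrpObj Q']
  (u : H ⟶ G) [IsMonHom u] (π : G ⟶ Q) [IsMonHom π] (π' : G ⟶ Q') [IsMonHom π']

/-- two quotients of `G` by `H` are isomorphic as group objects. -/
theorem quot_unique (hkp : IsKernelPair π (fst G H) (mmul u)) (huee : UEE 𝒮 π)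
    (hkp' : IsKernelPair π' (fst G H) (mmul u)) (huee' : UEE 𝒮 π') :
    ∃ e : Grp.mk Q ≅ Grp.mk Q', π ≫ e.hom.hom.hom = π' := by
  obtain ⟨g, ⟨hg, hgm⟩, -⟩ := existsUnique_desc u π hkp huee π' (u_comp_π u π' hkp')
  obtain ⟨g', ⟨hg', hgm'⟩, -⟩ := existsUnique_desc u π' hkp' huee' π (u_comp_π u π hkp)
  have he : Epi π := huee.epi
  have he' : Epi π' := huee'.epi
  have h1 : g ≫ g' = 𝟙 Q := by
    rw [← cancel_epi π, ← Category.assoc, hg, hg', Category.comp_id]
  have h2 : g' ≫ g = 𝟙 Q' := by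
    rw [← cancel_epi π', ← Category.assoc, hg', hg, Category.comp_id]
  let e : Q ≅ Q' := ⟨g, g', h1, h2⟩
  have : IsMonHom e.hom := hgm
  exact ⟨Grp.mkIso' e, hg⟩

end

end Groth.Agent.H3.GrpQuot
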