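import Mathlib
import Groth.Prelude.Def_Red2
import Groth.Agent.Lib.Helper3.HomDiag.Main

/-! Refinements of the local structure theorem: predicates on the character groups, comparison with
geometric fibres (helper3). -/

set_option autoImplicit false

universe u

open CategoryTheory MonoidalCategory CartesianMonoidalCategory MonObj GrpObj AlgebraicGeometry Limits
open Groth.Agent.H3.RigidAct

namespace Groth.Agent.H3.HomDiag

section SievesP

variable {S : Scheme.{u}}

/-- the sieve of base changes over which `u` is of the form `D(φ)`, with conditions on the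
character groups. -/
def locFormSieveP (PrM PrN : ∀ (M : Type) [AddCommGroup M], Prop)
    {G H : Over S} [GrpObj G] [GrpObj H] (u : G ⟶ H) : Sieve S where
  arrows T t := ∃ (M N : Type) (_ : AddCommGroup M) (_ : AddCommGroup N) (φ : N →+ M),
    PrM M ∧ PrN N ∧ LocForm u t φ
  downward_closed := by
    rintro T T' t ⟨M, N, _, _, φ, hM, hN, h⟩ t'
    exact ⟨M, N, _, _, φ, hM, hN, h.precomp t'⟩

theorem locFormSieveP_mem (PrM PrN : ∀ (M : Type) [AddCommGroup M], Prop)
    {G H : Over S} [GrpObj G] [GrpObj H] (u : G ⟶ H) [IsMonHom u]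
    (hG : trivSieve PrM G ∈ Scheme.fpqcTopology S)
    (hH : trivSieve (fun N _ => PrN N ∧ AddGroup.FG N) H ∈ Scheme.fpqcTopology S) :
    locFormSieveP PrM PrN u ∈ Scheme.fpqcTopology S := by
  refine GrothendieckTopology.transitive _ (GrothendieckTopology.intersection_covering _ hG hH) _ ?_
  rintro T t ⟨⟨M, _, hM, ⟨a⟩⟩, ⟨N, _, ⟨hN', hN⟩, ⟨b⟩⟩⟩
  apply mem_fpqc_of_openCover
  intro x
  obtain ⟨_, ⟨V, hV, rfl⟩, hxV, -⟩ := T.isBasis_affineOpens.exists_subset_of_mem_open
    (Set.mem_univ x) isOpen_univ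
  let R : CommRingCat.{u} := Γ(T, V)
  let s₀ : Spec R ⟶ T := hV.fromSpec
  obtain ⟨p, hp⟩ : ∃ p : PrimeSpectrum R, s₀ p = x := by
    have : x ∈ Set.range s₀.base := by
      rw [hV.range_fromSpec]
      exact hxV
    exact this
  have hmon : IsMonHom ((Over.pullback t).map u) := inferInstance
  obtain ⟨e, φ, hep, hid, hcore⟩ := core a b ((Over.pullback t).map u) hN s₀ p
  let j : Spec (CommRingCat.of (Localization.Away e)) ⟶ T :=
    Spec.map (CommRingCat.ofHom (algebraMap R (Localization.Away e))) ≫ s₀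
  refine ⟨_, j, inferInstance, ?_, ?_⟩
  · have hpe : p ∈ Set.range (Spec.map (CommRingCat.ofHom
        (algebraMap R (Localization.Away e)))).base := by
      have h1 := PrimeSpectrum.localization_away_comap_range (Localization.Away e) e
      have h2 : p ∈ (PrimeSpectrum.basicOpen e : Set (PrimeSpectrum R)) := hep
      rw [← h1] at h2
      exact h2
    obtain ⟨q, hq⟩ := hpe
    exact ⟨q, by rw [Scheme.Hom.comp_apply, hq, hp]⟩
  · change locFormSieveP PrM PrN u (j ≫ t)
    exact ⟨M, N, _, _, φ, hM, hN',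
      LocForm.of_map_eq a b j (map_eq_of_core a b _ s₀ e φ hid hcore)⟩

/-- a covering sieve has a member through any given point. -/
theorem exists_mem_of_mem {𝒯 : Sieve S} (h : 𝒯 ∈ Scheme.fpqcTopology S) (x : S) :
    ∃ (T : Scheme.{u}) (t : T ⟶ S) (y : T), 𝒯 t ∧ t y = x := by
  obtain ⟨𝒰, -, -, h𝒰⟩ := exists_cover_of_mem h
  obtain ⟨i, y, hy⟩ := 𝒰.exists_eq x
  exact ⟨_, 𝒰.f i, y, h𝒰 i, hy⟩

theorem trivSieve_self (Pr : ∀ (M : Type) [AddCommGroup M], Prop) (M : Type) [AddCommGroup M]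
    (hM : Pr M) : trivSieve Pr (Red.DS S M) ∈ Scheme.fpqcTopology S := by
  have h1 : trivSieve Pr (Red.DS S M) (𝟙 S) := ⟨M, _, hM, ⟨dsBC (𝟙 S) M⟩⟩
  rw [(Sieve.id_mem_iff_eq_top).1 h1]
  exact GrothendieckTopology.top_mem _ _

/-- an isomorphism `D_K(M) ≅ D_K(M')` over a non-empty base forces `M ≅ M'`. -/
theorem addEquiv_of_iso {K : Scheme.{u}} [Nonempty K] {M M' : Type} [AddCommGroup M]
    [AddCommGroup M'] (w : Grp.mk (Red.DS K M) ≅ Grp.mk (Red.DS K M')) (hfg : AddGroup.FG M') :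
    Nonempty (M' ≃+ M) := by
  have hmon : IsMonHom w.hom.hom.hom := inferInstanceAs (IsMonHom w.hom.hom.hom)
  have hmem := locFormSieveP_mem (fun X _ => Nonempty (X ≃+ M)) (fun X _ => Nonempty (X ≃+ M'))
    w.hom.hom.hom (trivSieve_self _ M ⟨AddEquiv.refl M⟩)
    (trivSieve_self (fun N _ => Nonempty (N ≃+ M') ∧ AddGroup.FG N) M' ⟨⟨AddEquiv.refl M'⟩, hfg⟩)
  obtain ⟨x⟩ := ‹Nonempty K›
  obtain ⟨T, t, y, ⟨X, N, _, _, φ, ⟨eX⟩, ⟨eN⟩, hLF⟩, -⟩ := exists_mem_of_mem hmem x
  have hiso : IsIso w.hom.hom.hom := ⟨w.inv.hom.hom, grp_hom_inv w, grp_inv_hom w⟩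
  have h1 : IsIso ((Over.pullback t).map w.hom.hom.hom) := inferInstance
  have h2 : IsIso ((Over.pullback t).map w.hom.hom.hom).left :=
    (Over.forget T).map_isIso ((Over.pullback t).map w.hom.hom.hom)
  have h3 : IsIso (Red.DSmap T φ).left :=
    (hLF.prop_iff (MorphismProperty.isomorphisms Scheme.{u})).1 h2
  have : Nonempty T := ⟨y⟩
  have h4 := bijective_of_isIso_DSmap φ h3
  exact ⟨eN.symm.trans ((AddEquiv.ofBijective φ h4).trans eX)⟩

/-- comparison of a chart point with the geometric point below it. -/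
theorem exists_geom_compare {T₁ : Scheme.{u}} (t : T₁ ⟶ S) (x : T₁) :
    ∃ (Ω : CommRingCat.{u}) (_ : Nonempty (Spec Ω)) (ω₁ : Spec Ω ⟶ T₁)
      (ω₂ : Spec Ω ⟶ Spec (CommRingCat.of (AlgebraicClosure (S.residueField (t x))))),
      ω₁ ≫ t = ω₂ ≫ Red.geomPt (t x) := by
  let K₁ := T₁.residueField x
  let k := S.residueField (t x)
  let ρ : k ⟶ K₁ := t.residueFieldMap x
  let Ω := AlgebraicClosure K₁
  letI : Algebra k Ω := ((algebraMap K₁ Ω).comp ρ.hom).toAlgebra
  let emb : AlgebraicClosure k →ₐ[k] Ω := IsAlgClosed.lift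
  have hemb : (CommRingCat.ofHom (algebraMap k (AlgebraicClosure k))) ≫ CommRingCat.ofHom emb.toRingHom =
      ρ ≫ CommRingCat.ofHom (algebraMap K₁ Ω) := by
    refine CommRingCat.hom_ext (RingHom.ext fun a => ?_)
    exact emb.commutes a
  refine ⟨CommRingCat.of Ω, inferInstance,
    Spec.map (CommRingCat.ofHom (algebraMap K₁ Ω)) ≫ T₁.fromSpecResidueField x,
    Spec.map (CommRingCat.ofHom emb.toRingHom), ?_⟩
  rw [Category.assoc, ← Scheme.Hom.SpecMap_residueFieldMap_fromSpecResidueField t x]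
  unfold Red.geomPt
  rw [← Category.assoc, ← Category.assoc, ← Spec.map_comp, ← Spec.map_comp, hemb]
  rfl

/-- the character group of a chart trivialisation agrees with that of the geometric fibre. -/
theorem addEquiv_of_chart_geom {G : Over S} [GrpObj G] {T₁ : Scheme.{u}} (t : T₁ ⟶ S) (x : T₁)
    {M M' : Type} [AddCommGroup M] [AddCommGroup M']
    (a : Grp.mk (Red.bc t G) ≅ Grp.mk (Red.DS T₁ M))
    (c : Grp.mk (Red.geomFibre (t x) G) ≅
      Grp.mk (Red.DS (Spec (CommRingCat.of (AlgebraicClosure (S.residueField (t x))))) M'))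
    (hfg : AddGroup.FG M') : Nonempty (M' ≃+ M) := by
  obtain ⟨Ω, hne, ω₁, ω₂, hω⟩ := exists_geom_compare t x
  exact addEquiv_of_iso
    ((trivBC ω₁ t a).symm ≪≫ bcEq hω G ≪≫ trivBC ω₂ (Red.geomPt (t x)) c) hfg

theorem fg_fin_int (r : ℕ) : AddGroup.FG (Fin r → ℤ) :=
  Module.Finite.iff_addGroup_fg.1 inferInstance

end SievesP

end Groth.Agent.H3.HomDiag
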