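import Mathlib
import Groth.Prelude.Def_Red2
import Groth.Agent.Lib.Helper3.HomDiag.Main2

/-! Equality of morphisms over a base is fpqc-local on the base; trivial homomorphisms (helper3). -/

set_option autoImplicit false

universe u

open CategoryTheory MonoidalCategory CartesianMonoidalCategory MonObj GrpObj AlgebraicGeometry Limits

namespace Groth.Agent.H3.HomDiag

section EqLoc

variable {S T T' : Scheme.{u}} {X Y : Over S}

theorem bc_eq_comp (t' : T' ⟶ T) (t : T ⟶ S) (f g : X ⟶ Y)
    (h : (Over.pullback t).map f = (Over.pullback t).map g) :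
    (Over.pullback (t' ≫ t)).map f = (Over.pullback (t' ≫ t)).map g := by
  have i1 : IsIso ((Over.pullbackComp t' t).hom.app Y) := inferInstance
  rw [← cancel_mono ((Over.pullbackComp t' t).hom.app Y)]
  have n1 := (Over.pullbackComp t' t).hom.naturality f
  have n2 := (Over.pullbackComp t' t).hom.naturality g
  rw [n1, n2]
  change _ ≫ (Over.pullback t').map ((Over.pullback t).map f) =
    _ ≫ (Over.pullback t').map ((Over.pullback t).map g)
  rw [h]

theorem bc_eq_of_comp (t' : T' ⟶ T) (t : T ⟶ S) (f g : X ⟶ Y)
    (h : (Over.pullback (t' ≫ t)).map f = (Over.pullback (t' ≫ t)).map g) :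
    (Over.pullback t').map ((Over.pullback t).map f) =
      (Over.pullback t').map ((Over.pullback t).map g) := by
  have i1 : IsIso ((Over.pullbackComp t' t).hom.app X) := inferInstance
  rw [← cancel_epi ((Over.pullbackComp t' t).hom.app X)]
  have n1 := (Over.pullbackComp t' t).hom.naturality f
  have n2 := (Over.pullbackComp t' t).hom.naturality g
  change (Over.pullback (t' ≫ t)).map f ≫ _ = _ ≫ (Over.pullback t').map ((Over.pullback t).map f)
    at n1
  change (Over.pullback (t' ≫ t)).map g ≫ _ = _ ≫ (Over.pullback t').map ((Over.pullback t).map g)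
    at n2
  rw [← n1, ← n2, h]

theorem bc_comp_eq_of (t' : T' ⟶ T) (t : T ⟶ S) (f g : X ⟶ Y)
    (h : (Over.pullback t').map ((Over.pullback t).map f) =
      (Over.pullback t').map ((Over.pullback t).map g)) :
    (Over.pullback (t' ≫ t)).map f = (Over.pullback (t' ≫ t)).map g := by
  have i1 : IsIso ((Over.pullbackComp t' t).hom.app Y) := inferInstance
  rw [← cancel_mono ((Over.pullbackComp t' t).hom.app Y)]
  have n1 := (Over.pullbackComp t' t).hom.naturality f
  have n2 := (Over.pullbackComp t' t).hom.naturality g
  rw [n1, n2]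
  change _ ≫ (Over.pullback t').map ((Over.pullback t).map f) =
    _ ≫ (Over.pullback t').map ((Over.pullback t).map g)
  rw [h]

/-- equality after base change in terms of the equalizer. -/
theorem isIso_bc_equalizer_iff (t : T ⟶ S) (f g : X ⟶ Y) :
    IsIso ((Over.pullback t).map (equalizer.ι f g)).left ↔
      (Over.pullback t).map f = (Over.pullback t).map g := by
  have hpres : PreservesLimit (parallelPair f g) (Over.pullback t) :=
    (Over.mapPullbackAdj t).rightAdjoint_preservesLimits.preservesLimitsOfShape.preservesLimit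
  have hlim := isLimitForkMapOfIsLimit (Over.pullback t) (equalizer.condition f g)
    (equalizerIsEqualizer f g)
  constructor
  · intro h
    have h1 : IsIso ((Over.forget T).map ((Over.pullback t).map (equalizer.ι f g))) := h
    have h2 : IsIso ((Over.pullback t).map (equalizer.ι f g)) :=
      isIso_of_reflects_iso _ (Over.forget T)
    rw [← cancel_epi ((Over.pullback t).map (equalizer.ι f g)), ← Functor.map_comp,
      ← Functor.map_comp, equalizer.condition]
  · intro h
    have h2 : IsIso ((Over.pullback t).map (equalizer.ι f g)) :=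
      isIso_limit_cone_parallelPair_of_eq h hlim
    exact (Over.forget T).map_isIso ((Over.pullback t).map (equalizer.ι f g))

/-- equality of morphisms can be tested on an fpqc covering sieve of the base. -/
theorem eq_of_sieve {𝒯 : Sieve S} (h𝒯 : 𝒯 ∈ Scheme.fpqcTopology S) (f g : X ⟶ Y)
    (h : ∀ {T : Scheme.{u}} (t : T ⟶ S), 𝒯 t →
      (Over.pullback t).map f = (Over.pullback t).map g) : f = g := by
  have : (MorphismProperty.isomorphisms Scheme.{u}).IsLocalAtTarget Scheme.fpqcPrecoverage :=
    Groth.Agent.H3.FpqcLocal.isLocalAtTarget_fpqc _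
  have h1 : IsIso (equalizer.ι f g).left :=
    prop_of_sieve (MorphismProperty.isomorphisms Scheme.{u}) h𝒯 (equalizer.ι f g)
      (fun t ht => (isIso_bc_equalizer_iff t f g).2 (h t ht))
  have h2 : IsIso ((Over.forget S).map (equalizer.ι f g)) := h1
  have h3 : IsIso (equalizer.ι f g) := isIso_of_reflects_iso _ (Over.forget S)
  rw [← cancel_epi (equalizer.ι f g), equalizer.condition]

/-- equality descends along a flat surjective quasi-compact base change. -/
theorem bc_eq_of_comp_fpqc (t' : T' ⟶ T) [Flat t'] [Surjective t'] [QuasiCompact t'] (t : T ⟶ S)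
    (f g : X ⟶ Y)
    (h : (Over.pullback (t' ≫ t)).map f = (Over.pullback (t' ≫ t)).map g) :
    (Over.pullback t).map f = (Over.pullback t).map g := by
  have hmem : Sieve.generate (Presieve.singleton t') ∈ Scheme.fpqcTopology T :=
    Precoverage.generate_mem_toGrothendieck (Scheme.Hom.singleton_mem_fpqcPrecoverage t')
  refine eq_of_sieve hmem _ _ ?_
  rintro T'' t'' ⟨Z, r, _, ⟨⟩, rfl⟩
  exact bc_eq_comp r t' _ _ (bc_eq_of_comp t' t f g h)

end EqLoc

end Groth.Agent.H3.HomDiag
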