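import Mathlib
import Groth.Prelude.Def_Red2
import Groth.Agent.Lib.Helper3.HomDiag.EqLoc

/-! Loci where a homomorphism between groups of multiplicative type is trivial (helper3). -/

set_option autoImplicit false

universe u

open CategoryTheory MonoidalCategory CartesianMonoidalCategory MonObj GrpObj AlgebraicGeometry Limits
open Groth.Agent.H3.DSKit

namespace Groth.Agent.H3.HomDiag

section Triv

variable {S : Scheme.{u}} {G H : Over S} [GrpObj G] [GrpObj H]

omit [GrpObj G] in
open scoped CategoryTheory.Obj in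
theorem bc_one {T : Scheme.{u}} (t : T ⟶ S) : (Over.pullback t).map (1 : G ⟶ H) = 1 :=
  Functor.map_one _

theorem eq_one_of_comp_iso {W : Scheme.{u}} {A B C : Over W} [GrpObj B] [GrpObj C] (f : A ⟶ B)
    (e : Grp.mk B ≅ Grp.mk C) (h : f ≫ e.hom.hom.hom = 1) : f = 1 := by
  have hmon : IsMonHom e.inv.hom.hom := inferInstanceAs (IsMonHom e.inv.hom.hom)
  have h1 : f = (f ≫ e.hom.hom.hom) ≫ e.inv.hom.hom := by
    rw [Category.assoc, grp_hom_inv, Category.comp_id]
  rw [h1, h, MonObj.one_comp]

theorem one_comp_iso {W : Scheme.{u}} {A B C : Over W} [GrpObj B] [GrpObj C]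
    (e : Grp.mk B ≅ Grp.mk C) : (1 : A ⟶ B) ≫ e.hom.hom.hom = 1 := by
  have hmon : IsMonHom e.hom.hom.hom := inferInstanceAs (IsMonHom e.hom.hom.hom)
  exact MonObj.one_comp e.hom.hom.hom

theorem LocForm.triv_iff {T : Scheme.{u}} [Nonempty T] {t : T ⟶ S} {M N : Type} [AddCommGroup M]
    [AddCommGroup N] {φ : N →+ M} {w : G ⟶ H} (hLF : LocForm w t φ) :
    (Over.pullback t).map w = 1 ↔ φ = 0 := by
  obtain ⟨a, b, hab⟩ := hLF
  constructor
  · intro h
    have h2 : a.hom.hom.hom ≫ Red.DSmap T φ = 1 := by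
      rw [← hab, h]
      exact one_comp_iso b
    have h1 : Red.DSmap T φ = a.inv.hom.hom ≫ a.hom.hom.hom ≫ Red.DSmap T φ := by
      rw [← Category.assoc, grp_inv_hom, Category.id_comp]
    rw [h2, MonObj.comp_one, ← DSmap_zero] at h1
    exact DSmap_injective h1
  · intro h
    rw [h, DSmap_zero, MonObj.comp_one] at hab
    exact eq_one_of_comp_iso _ b hab

theorem triv_fibre_iff (w : G ⟶ H) {T : Scheme.{u}} {t : T ⟶ S} {M N : Type} [AddCommGroup M]
    [AddCommGroup N] {φ : N →+ M} (hLF : LocForm w t φ) (x : T) :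
    (Over.pullback (S.fromSpecResidueField (t x))).map w = 1 ↔ φ = 0 := by
  have hc : Spec.map (t.residueFieldMap x) ≫ S.fromSpecResidueField (t x) =
      T.fromSpecResidueField x ≫ t := Scheme.Hom.SpecMap_residueFieldMap_fromSpecResidueField t x
  have hLFc : LocForm w (T.fromSpecResidueField x ≫ t) φ := hLF.precomp _
  have h1 := hLFc.triv_iff
  have := flat_residueFieldMap t x
  have := surjective_residueFieldMap t x
  constructor
  · intro h
    rw [← h1, ← hc]
    have h2 := bc_eq_comp (Spec.map (t.residueFieldMap x)) (S.fromSpecResidueField (t x)) w 1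
      (by rw [h, bc_one])
    rwa [bc_one] at h2
  · intro hφ
    have h2 := h1.2 hφ
    rw [← hc] at h2
    have h3 := bc_eq_of_comp_fpqc (Spec.map (t.residueFieldMap x))
      (S.fromSpecResidueField (t x)) w 1 (by rw [h2, bc_one])
    rwa [bc_one] at h3

theorem triv_locus (w : G ⟶ H) (h𝒯 : locFormSieve w ∈ Scheme.fpqcTopology S) :
    IsClopen {s : S | (Over.pullback (S.fromSpecResidueField s)).map w = 1} := by
  set A : Set S := {s : S | (Over.pullback (S.fromSpecResidueField s)).map w = 1} with hAdef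
  have hA : ∀ {T : Scheme.{u}} (t : T ⟶ S), locFormSieve w t →
      (t.base ⁻¹' A = Set.univ ∨ t.base ⁻¹' A = ∅) := by
    rintro T t ⟨M, N, _, _, φ, hLF⟩
    by_cases hQ : φ = 0
    · left
      ext x
      simp only [Set.mem_preimage, Set.mem_univ, iff_true]
      exact (triv_fibre_iff w hLF x).2 hQ
    · right
      ext x
      simp only [Set.mem_preimage, Set.mem_empty_iff_false, iff_false]
      exact fun h => hQ ((triv_fibre_iff w hLF x).1 h)
  have hopen : IsOpen A := isOpen_of_sieve h𝒯 A (fun t ht => by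
    rcases hA t ht with h | h <;> rw [h] <;> simp)
  have hclosed : IsClosed A := ⟨isOpen_of_sieve h𝒯 Aᶜ (fun t ht => by
    rw [Set.preimage_compl]
    rcases hA t ht with h | h <;> rw [h] <;> simp)⟩
  exact ⟨hclosed, hopen⟩

theorem triv_of_forall (w : G ⟶ H) (h𝒯 : locFormSieve w ∈ Scheme.fpqcTopology S)
    (h : ∀ s : S, (Over.pullback (S.fromSpecResidueField s)).map w = 1) : w = 1 := by
  refine eq_of_sieve h𝒯 w 1 ?_
  rintro T t ⟨M, N, _, _, φ, hLF⟩
  rw [bc_one]
  by_cases hT : Nonempty T
  · obtain ⟨x⟩ := hT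
    have : Nonempty T := ⟨x⟩
    exact hLF.triv_iff.2 ((triv_fibre_iff w hLF x).1 (h (t x)))
  · have h1 : IsEmpty T := not_nonempty_iff.1 hT
    have h2 : IsEmpty (Red.bc t G).left := Function.isEmpty (Red.bc t G).hom.base
    apply Over.OverMorphism.ext
    exact (isInitialOfIsEmpty (X := (Red.bc t G).left)).hom_ext _ _

/-- over a connected base, a homomorphism which is trivial over some non-empty base change is
trivial. -/
theorem triv_of_nonempty [PreconnectedSpace S] (w : G ⟶ H)
    (h𝒯 : locFormSieve w ∈ Scheme.fpqcTopology S) {T : Scheme.{u}} (t : T ⟶ S) [Nonempty T]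
    (h : (Over.pullback t).map w = 1) : w = 1 := by
  obtain ⟨x⟩ := ‹Nonempty T›
  have hc : Spec.map (t.residueFieldMap x) ≫ S.fromSpecResidueField (t x) =
      T.fromSpecResidueField x ≫ t := Scheme.Hom.SpecMap_residueFieldMap_fromSpecResidueField t x
  have := flat_residueFieldMap t x
  have := surjective_residueFieldMap t x
  have hx : (Over.pullback (S.fromSpecResidueField (t x))).map w = 1 := by
    have h1 := bc_eq_comp (T.fromSpecResidueField x) t w 1 (by rw [h, bc_one])
    rw [← hc] at h1
    have h2 := bc_eq_of_comp_fpqc (Spec.map (t.residueFieldMap x))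
      (S.fromSpecResidueField (t x)) w 1 h1
    rwa [bc_one] at h2
  have huniv := (triv_locus w h𝒯).eq_univ ⟨t x, hx⟩
  refine triv_of_forall w h𝒯 (fun s => ?_)
  have hs : s ∈ {s : S | (Over.pullback (S.fromSpecResidueField s)).map w = 1} := by
    rw [huniv]
    trivial
  exact hs

end Triv

end Groth.Agent.H3.HomDiag
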