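import Mathlib
import Groth.Prelude.Def_Red2
import Groth.Agent.Lib.Helper3.HomDiag.Triv

/-! Local form of a homomorphism into a split diagonalisable group, with control of the characters
(helper3). -/

set_option autoImplicit false

universe u

open CategoryTheory MonoidalCategory CartesianMonoidalCategory MonObj GrpObj AlgebraicGeometry Limits
open Groth.Agent.H3.DSKit Groth.Agent.H3.RigidAct

namespace Groth.Agent.H3.HomDiag

section CanForm

variable {S : Scheme.{u}} {G : Over S} [GrpObj G] {X : Type} [AddCommGroup X]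

/-- charts on which `u : G ⟶ D_S(X)` has the form `D(φ)` with `φ : X → M`, such that the characters
in the kernel of `φ` are trivial on `G` over the chart. -/
def kerFormSieve (u : G ⟶ Red.DS S X) : Sieve S where
  arrows T t := ∃ (M : Type) (_ : AddCommGroup M) (φ : X →+ M), LocForm u t φ ∧
    ∀ m : X, φ m = 0 → (Over.pullback t).map (u ≫ Red.chi S m) = 1
  downward_closed := by
    rintro T T' t ⟨M, _, φ, hLF, hk⟩ t'
    refine ⟨M, _, φ, hLF.precomp t', fun m hm => ?_⟩
    have := bc_eq_comp t' t (u ≫ Red.chi S m) 1 (by rw [hk m hm, bc_one])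
    rwa [bc_one] at this

theorem zmultiplesHom_comp {M : Type} [AddCommGroup M] (φ : X →+ M) (m : X) :
    φ.comp (zmultiplesHom X m) = zmultiplesHom M (φ m) := by
  ext
  simp

theorem kerFormSieve_mem (hX : AddGroup.FG X) (u : G ⟶ Red.DS S X) [IsMonHom u]
    (hG : trivSieve (fun _ _ => True) G ∈ Scheme.fpqcTopology S) :
    kerFormSieve u ∈ Scheme.fpqcTopology S := by
  refine GrothendieckTopology.transitive _ hG _ ?_
  rintro T t ⟨M, _, -, ⟨a⟩⟩
  apply mem_fpqc_of_openCover
  intro x
  obtain ⟨_, ⟨V, hV, rfl⟩, hxV, -⟩ := T.isBasis_affineOpens.exists_subset_of_mem_open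
    (Set.mem_univ x) isOpen_univ
  let R : CommRingCat.{u} := Γ(T, V)
  let s₀ : Spec R ⟶ T := hV.fromSpec
  obtain ⟨p, hp⟩ : ∃ p : PrimeSpectrum R, s₀ p = x := by
    have : x ∈ Set.range s₀.base := by
      rw [hV.range_fromSpec]
      exact hxV
    exact this
  have hmon : IsMonHom ((Over.pullback t).map u) := inferInstance
  obtain ⟨e, φ, hep, hid, hcore⟩ := core a (dsBC t X) ((Over.pullback t).map u) hX s₀ p
  let j : Spec (CommRingCat.of (Localization.Away e)) ⟶ T :=
    Spec.map (CommRingCat.ofHom (algebraMap R (Localization.Away e))) ≫ s₀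
  refine ⟨_, j, inferInstance, ?_, ?_⟩
  · have hpe : p ∈ Set.range (Spec.map (CommRingCat.ofHom
        (algebraMap R (Localization.Away e)))).base := by
      have h1 := PrimeSpectrum.localization_away_comap_range (Localization.Away e) e
      have h2 : p ∈ (PrimeSpectrum.basicOpen e : Set (PrimeSpectrum R)) := hep
      rw [← h1] at h2
      exact h2
    obtain ⟨q, hq⟩ := hpe
    exact ⟨q, by rw [Scheme.Hom.comp_apply, hq, hp]⟩
  · change kerFormSieve u (j ≫ t)
    have hmap := map_eq_of_core a (dsBC t X) ((Over.pullback t).map u) s₀ e φ hid hcore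
    refine ⟨M, _, φ, LocForm.of_map_eq a (dsBC t X) j hmap, fun m hm => ?_⟩
    have hgoal : (Over.pullback j).map ((Over.pullback t).map (u ≫ Red.chi S m)) = 1 := by
      apply eq_one_of_comp_iso _ ((Over.pullback j).mapGrp.mapIso (dsBC t ℤ))
      change (Over.pullback j).map ((Over.pullback t).map (u ≫ Red.chi S m)) ≫
        (Over.pullback j).map (dsBC t ℤ).hom.hom.hom = 1
      have hnat : (Over.pullback t).map (Red.chi S m) ≫ (dsBC t ℤ).hom.hom.hom =
          (dsBC t X).hom.hom.hom ≫ Red.chi T m := dsBC_natural t (zmultiplesHom X m)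
      have h1 : (Over.pullback t).map (u ≫ Red.chi S m) ≫ (dsBC t ℤ).hom.hom.hom =
          ((Over.pullback t).map u ≫ (dsBC t X).hom.hom.hom) ≫ Red.chi T m := by
        rw [Functor.map_comp, Category.assoc, hnat, Category.assoc]
      rw [← Functor.map_comp, h1, Functor.map_comp]
      have hmap' : (Over.pullback j).map ((Over.pullback t).map u ≫ (dsBC t X).hom.hom.hom) =
          (Over.pullback j).map (a.hom.hom.hom ≫ Red.DSmap T φ) := hmap
      rw [hmap', ← Functor.map_comp, Category.assoc]
      have h2 : Red.DSmap T φ ≫ Red.chi T m = 1 := by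
        change Red.DSmap T φ ≫ Red.DSmap T (zmultiplesHom X m) = 1
        have hz : zmultiplesHom M (0 : M) = 0 := by
          ext
          simp
        rw [← DSmap_comp, zmultiplesHom_comp, hm, hz, DSmap_zero]
      rw [h2, MonObj.comp_one, bc_one]
    have h3 := bc_comp_eq_of j t (u ≫ Red.chi S m) 1 (by rw [hgoal, bc_one, bc_one])
    rwa [bc_one] at h3

end CanForm

end Groth.Agent.H3.HomDiag
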