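import Mathlib
import Groth.Prelude.Def_Red2
import Groth.Prelude.Def_SGA3x
import Groth.Prelude.Def_TwC
import Groth.Agent.Lib.Helper3.HomDiag.Main

/-! Loci of fibrewise monomorphisms / isomorphisms / faithfully flat homomorphisms between groups of
multiplicative type (helper3). -/

set_option autoImplicit false

universe u

open CategoryTheory MonoidalCategory CartesianMonoidalCategory MonObj GrpObj AlgebraicGeometry Limits

namespace Groth.Agent.H3.HomDiag

section Rows

variable {S : Scheme.{u}}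

theorem trivSieve_fg_of_isMultTypeFT {H : Over S} [GrpObj H] (hH : SGA3x.IsMultTypeFT H) :
    trivSieve (fun M _ => AddGroup.FG M) H ∈ Scheme.fpqcTopology S := by
  obtain ⟨S', f, hflat, hsurj, hqc, hloc⟩ := hH
  have := hflat
  refine mem_fpqc_of_cover f hsurj hqc _ (fun s' => ?_)
  obtain ⟨U, hU, M, hM, hfg, ⟨e⟩⟩ := hloc s'
  exact ⟨U, hU, M, hM, hfg, ⟨e⟩⟩

theorem trivSieve_of_isMultTypeFT {H : Over S} [GrpObj H] (hH : SGA3x.IsMultTypeFT H) :
    trivSieve (fun _ _ => True) H ∈ Scheme.fpqcTopology S := by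
  obtain ⟨S', f, hflat, hsurj, hqc, hloc⟩ := hH
  have := hflat
  refine mem_fpqc_of_cover f hsurj hqc _ (fun s' => ?_)
  obtain ⟨U, hU, M, hM, hfg, ⟨e⟩⟩ := hloc s'
  exact ⟨U, hU, M, hM, trivial, ⟨e⟩⟩

theorem trivSieve_of_locally {H : Over S} [GrpObj H]
    (hH : TwC.Locally S TwC.Topology.fpqc (fun S' g => ∃ (M : Type) (_ : AddCommGroup M),
      Nonempty (Grp.mk (Red.bc g H) ≅ Grp.mk (Red.DS S' M)))) :
    trivSieve (fun _ _ => True) H ∈ Scheme.fpqcTopology S := by
  obtain ⟨S', f, hflat, hsurj, hqc, hloc⟩ := hH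
  have := hflat
  refine mem_fpqc_of_cover f hsurj hqc _ (fun s' => ?_)
  obtain ⟨U, hU, M, hM, ⟨e⟩⟩ := hloc s'
  exact ⟨U, hU, M, hM, trivial, ⟨e⟩⟩

open Groth.Agent.H3.FpqcLocal in
/-- fibrewise monomorphism locus -/
theorem mono_locus {G H : Over S} [GrpObj G] [GrpObj H] (u : G ⟶ H) [IsMonHom u]
    (hG : trivSieve (fun _ _ => True) G ∈ Scheme.fpqcTopology S)
    (hH : trivSieve (fun M _ => AddGroup.FG M) H ∈ Scheme.fpqcTopology S) :
    ∃ U : S.Opens, IsClosed (U : Set S) ∧
      (∀ s : S, s ∈ U ↔ Mono ((Over.pullback (S.fromSpecResidueField s)).map u).left) ∧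
      Mono ((Over.pullback U.ι).map u).left := by
  have := mono_descendsAlong_fpqc.{u}
  have : (MorphismProperty.monomorphisms Scheme.{u}).IsLocalAtTarget Scheme.fpqcPrecoverage :=
    isLocalAtTarget_fpqc _
  exact master u (MorphismProperty.monomorphisms Scheme.{u})
    (fun φ => Function.Surjective φ)
    (fun T _ _ _ _ φ hφ => mono_DSmap_of_surjective T φ hφ)
    (fun T _ _ _ _ _ φ h => surjective_of_mono_DSmap φ h)
    (fun f _ => MorphismProperty.monomorphisms.infer_property f)
    (locFormSieve_mem u hG hH)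

open Groth.Agent.H3.FpqcLocal in
/-- fibrewise isomorphism locus -/
theorem iso_locus {G H : Over S} [GrpObj G] [GrpObj H] (u : G ⟶ H) [IsMonHom u]
    (hG : trivSieve (fun _ _ => True) G ∈ Scheme.fpqcTopology S)
    (hH : trivSieve (fun M _ => AddGroup.FG M) H ∈ Scheme.fpqcTopology S) :
    ∃ U : S.Opens, IsClosed (U : Set S) ∧
      (∀ s : S, s ∈ U ↔ IsIso ((Over.pullback (S.fromSpecResidueField s)).map u).left) ∧
      IsIso ((Over.pullback U.ι).map u).left := by
  have : (MorphismProperty.isomorphisms Scheme.{u}).IsLocalAtTarget Scheme.fpqcPrecoverage :=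
    isLocalAtTarget_fpqc _
  exact master u (MorphismProperty.isomorphisms Scheme.{u})
    (fun φ => Function.Bijective φ)
    (fun T _ _ _ _ φ hφ => isIso_DSmap_of_bijective T φ hφ)
    (fun T _ _ _ _ _ φ h => bijective_of_isIso_DSmap φ h)
    (fun f _ => MorphismProperty.isomorphisms.infer_property f)
    (locFormSieve_mem u hG hH)

open Groth.Agent.H3.FpqcLocal in
/-- fibrewise faithfully flat locus -/
theorem ff_locus {G H : Over S} [GrpObj G] [GrpObj H] (u : G ⟶ H) [IsMonHom u]
    (hG : trivSieve (fun _ _ => True) G ∈ Scheme.fpqcTopology S)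
    (hH : trivSieve (fun M _ => AddGroup.FG M) H ∈ Scheme.fpqcTopology S) :
    ∃ U : S.Opens, IsClosed (U : Set S) ∧
      (∀ s : S, s ∈ U ↔ (Flat ((Over.pullback (S.fromSpecResidueField s)).map u).left ∧
        Surjective ((Over.pullback (S.fromSpecResidueField s)).map u).left)) ∧
      (Flat ((Over.pullback U.ι).map u).left ∧ Surjective ((Over.pullback U.ι).map u).left) := by
  exact master u (@Flat ⊓ @Surjective : MorphismProperty Scheme.{u})
    (fun φ => Function.Injective φ)
    (fun T _ _ _ _ φ hφ => ff_DSmap_of_injective T φ hφ)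
    (fun T _ _ _ _ _ φ h => injective_of_ff_DSmap φ h)
    (fun f _ => ⟨inferInstance, inferInstance⟩)
    (locFormSieve_mem u hG hH)

end Rows

end Groth.Agent.H3.HomDiag
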