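import Mathlib
import Groth.Prelude.Def_Red2
import Groth.Agent.Lib.Helper3.HomDiag.Main2

/-! Monomorphisms of tori of the same rank are isomorphisms (helper3). -/

set_option autoImplicit false

universe u

open CategoryTheory MonoidalCategory CartesianMonoidalCategory MonObj GrpObj AlgebraicGeometry Limits

namespace Groth.Agent.H3.HomDiag

section Tori

variable {S : Scheme.{u}}

/-- character groups of tori are free of finite rank -/
def PrT (M : Type) [AddCommGroup M] : Prop := ∃ r : ℕ, Nonempty (M ≃+ (Fin r → ℤ))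

theorem trivSieve_of_isTorus {T : Over S} [GrpObj T] (hT : Red.IsTorus T) :
    trivSieve (fun M _ => PrT M ∧ AddGroup.FG M) T ∈ Scheme.fpqcTopology S := by
  obtain ⟨S', f, hflat, hsurj, hqc, hloc⟩ := hT
  have := hflat
  refine mem_fpqc_of_cover f hsurj hqc _ (fun s' => ?_)
  obtain ⟨U, hU, r, ⟨e⟩⟩ := hloc s'
  exact ⟨U, hU, Fin r → ℤ, inferInstance, ⟨⟨r, ⟨AddEquiv.refl _⟩⟩, fg_fin_int r⟩, ⟨e⟩⟩

theorem trivSieve_mono (Pr Pr' : ∀ (M : Type) [AddCommGroup M], Prop)
    (h : ∀ (M : Type) [AddCommGroup M], Pr M → Pr' M) {G : Over S} [GrpObj G]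
    (hG : trivSieve Pr G ∈ Scheme.fpqcTopology S) : trivSieve Pr' G ∈ Scheme.fpqcTopology S := by
  refine GrothendieckTopology.superset_covering _ ?_ hG
  rintro T t ⟨M, _, hM, ha⟩
  exact ⟨M, _, h M hM, ha⟩

theorem rank_eq_of_addEquiv {r r' : ℕ} (e : (Fin r → ℤ) ≃+ (Fin r' → ℤ)) : r = r' := by
  have := LinearEquiv.finrank_eq e.toIntLinearEquiv
  simpa using this

theorem isIso_of_mono_tori {T T' : Over S} [GrpObj T] [GrpObj T']
    (hT : Red.IsTorus T) (hT' : Red.IsTorus T') (f : T ⟶ T') [IsMonHom f] [Mono f]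
    (hrk : ∀ s : S, ∃ r : ℕ, Red.IsSplitTorusWith (Fin r → ℤ) (Red.geomFibre s T) ∧
      Red.IsSplitTorusWith (Fin r → ℤ) (Red.geomFibre s T')) : IsIso f := by
  have hmem := locFormSieveP_mem (fun M _ => PrT M) (fun M _ => PrT M) f
    (trivSieve_mono _ _ (fun M _ h => h.1) (trivSieve_of_isTorus hT)) (trivSieve_of_isTorus hT')
  have : (MorphismProperty.isomorphisms Scheme.{u}).IsLocalAtTarget Scheme.fpqcPrecoverage :=
    Groth.Agent.H3.FpqcLocal.isLocalAtTarget_fpqc _
  have hleft : IsIso f.left := by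
    refine prop_of_sieve (MorphismProperty.isomorphisms Scheme.{u}) hmem f ?_
    rintro T₁ t ⟨M, N, _, _, φ, ⟨r, ⟨eM⟩⟩, ⟨r', ⟨eN⟩⟩, hLF⟩
    rw [hLF.prop_iff (MorphismProperty.isomorphisms Scheme.{u})]
    by_cases hne : Nonempty T₁
    · obtain ⟨x⟩ := hne
      have hm1 : Mono ((Over.pullback t).map f) := inferInstance
      have hm2 : Mono ((Over.pullback t).map f).left := inferInstance
      have hm3 : Mono (Red.DSmap T₁ φ).left :=
        (hLF.prop_iff (MorphismProperty.monomorphisms Scheme.{u})).1 hm2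
      have : Nonempty T₁ := ⟨x⟩
      have hsurj := surjective_of_mono_DSmap φ hm3
      obtain ⟨ρ, ⟨iT⟩, ⟨iT'⟩⟩ := hrk (t x)
      obtain ⟨a, b, -⟩ := hLF
      obtain ⟨e1⟩ := addEquiv_of_chart_geom t x a iT (fg_fin_int ρ)
      obtain ⟨e2⟩ := addEquiv_of_chart_geom t x b iT' (fg_fin_int ρ)
      have hr : ρ = r := rank_eq_of_addEquiv (e1.trans eM)
      have hr' : ρ = r' := rank_eq_of_addEquiv (e2.trans eN)
      subst hr
      subst hr'
      -- a surjective endomorphism of a finite free module is injective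
      let g : (Fin ρ → ℤ) →ₗ[ℤ] (Fin ρ → ℤ) :=
        ((eM.toAddMonoidHom.comp φ).comp eN.symm.toAddMonoidHom).toIntLinearMap
      have hg : Function.Surjective g := by
        intro y
        obtain ⟨n, hn⟩ := hsurj (eM.symm y)
        refine ⟨eN n, ?_⟩
        change eM (φ (eN.symm (eN n))) = y
        rw [AddEquiv.symm_apply_apply, hn, AddEquiv.apply_symm_apply]
      have hginj : Function.Injective g := OrzechProperty.injective_of_surjective_endomorphism g hg
      have hinj : Function.Injective φ := by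
        intro n₁ n₂ h12
        have : g (eN n₁) = g (eN n₂) := by
          change eM (φ (eN.symm (eN n₁))) = eM (φ (eN.symm (eN n₂)))
          rw [AddEquiv.symm_apply_apply, AddEquiv.symm_apply_apply, h12]
        exact eN.injective (hginj this)
      exact isIso_DSmap_of_bijective T₁ φ ⟨hinj, hsurj⟩
    · have h1 : IsEmpty T₁ := not_nonempty_iff.1 hne
      have h2 : IsEmpty (Red.DS T₁ N).left := Function.isEmpty (Red.DS T₁ N).hom.base
      exact MorphismProperty.isomorphisms.infer_property _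
  have : IsIso ((Over.forget S).map f) := hleft
  exact isIso_of_reflects_iso f (Over.forget S)

end Tori

end Groth.Agent.H3.HomDiag
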