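import Mathlib
import Groth.Prelude.Def_Red2
import Groth.Prelude.Def_SGA3x
import Groth.Agent.Lib.Helper3.HomDiag.Tori
import Groth.Agent.Lib.Helper3.HomDiag.Rows
import Groth.Agent.Lib.Helper9.Misc.TRS2

/-! Maximal split subtori of groups of finite multiplicative type (helper3). -/

set_option autoImplicit false

universe u

open CategoryTheory MonoidalCategory CartesianMonoidalCategory MonObj GrpObj AlgebraicGeometry Limits

namespace Groth.Agent.H3.HomDiag

section Split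

variable {S : Scheme.{u}}

/-- base change of a splitting -/
noncomputable def splitBC {T : Scheme.{u}} (t : T ⟶ S) {G : Over S} [GrpObj G] {M : Type}
    [AddCommGroup M] (e : Grp.mk G ≅ Grp.mk (Red.DS S M)) :
    Grp.mk (Red.bc t G) ≅ Grp.mk (Red.DS T M) :=
  (Over.pullback t).mapGrp.mapIso e ≪≫ dsBC t M

theorem trivSieve_of_split (Pr : ∀ (M : Type) [AddCommGroup M], Prop) {G : Over S} [GrpObj G]
    (M : Type) [AddCommGroup M] (hM : Pr M) (e : Red.IsSplitTorusWith M G) :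
    trivSieve Pr G ∈ Scheme.fpqcTopology S := by
  obtain ⟨e⟩ := e
  have h1 : trivSieve Pr G (𝟙 S) := ⟨M, _, hM, ⟨splitBC (𝟙 S) e⟩⟩
  rw [(Sieve.id_mem_iff_eq_top).1 h1]
  exact GrothendieckTopology.top_mem _ _

theorem isTorus_of_split {T : Over S} [GrpObj T] (r : ℕ)
    (e : Red.IsSplitTorusWith (Fin r → ℤ) T) : Red.IsTorus T := by
  obtain ⟨e⟩ := e
  refine ⟨S, 𝟙 S, inferInstance, inferInstance, fun V hV => ⟨V, hV.isCompact, by simp⟩,
    fun s => ⟨⊤, trivial, r, ⟨splitBC ((⊤ : S.Opens).ι ≫ 𝟙 S) e⟩⟩⟩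

/-- two charts through the same point have isomorphic character groups -/
theorem addEquiv_of_two_charts {G : Over S} [GrpObj G] {T₁ T₂ : Scheme.{u}} (t₁ : T₁ ⟶ S)
    (t₂ : T₂ ⟶ S) (y₁ : T₁) (y₂ : T₂) (h : t₁ y₁ = t₂ y₂)
    {M₁ M₂ : Type} [AddCommGroup M₁] [AddCommGroup M₂]
    (a₁ : Grp.mk (Red.bc t₁ G) ≅ Grp.mk (Red.DS T₁ M₁))
    (a₂ : Grp.mk (Red.bc t₂ G) ≅ Grp.mk (Red.DS T₂ M₂)) (hfg : AddGroup.FG M₂) :
    Nonempty (M₂ ≃+ M₁) := by
  obtain ⟨z, -, -⟩ := Scheme.Pullback.exists_preimage_pullback y₁ y₂ h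
  have : Nonempty ↥(pullback t₁ t₂) := ⟨z⟩
  exact addEquiv_of_iso ((trivBC (pullback.fst t₁ t₂) t₁ a₁).symm ≪≫ bcEq pullback.condition G ≪≫
    trivBC (pullback.snd t₁ t₂) t₂ a₂) hfg

theorem le_of_surjective_fin {r n : ℕ} (f : (Fin n → ℤ) →+ (Fin r → ℤ))
    (hf : Function.Surjective f) : r ≤ n := by
  have h1 := LinearMap.finrank_range_le f.toIntLinearMap
  have h2 : LinearMap.range f.toIntLinearMap = ⊤ := LinearMap.range_eq_top.2 hf
  rw [h2, finrank_top] at h1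
  simpa using h1

/-- the rank of a split subtorus is bounded by the number of generators of a chart. -/
theorem rank_le_of_mono {T G : Over S} [GrpObj T] [GrpObj G] (j : T ⟶ G) [IsMonHom j] [Mono j]
    (r : ℕ) (hT : Red.IsSplitTorusWith (Fin r → ℤ) T)
    (hG : trivSieve (fun M _ => AddGroup.FG M) G ∈ Scheme.fpqcTopology S)
    {T₀ : Scheme.{u}} (t₀ : T₀ ⟶ S) (y₀ : T₀) {M₀ : Type} [AddCommGroup M₀] (n : ℕ)
    (π : (Fin n → ℤ) →+ M₀) (hπ : Function.Surjective π)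
    (a₀ : Grp.mk (Red.bc t₀ G) ≅ Grp.mk (Red.DS T₀ M₀)) : r ≤ n := by
  have hmem := locFormSieveP_mem (fun X _ => Nonempty (X ≃+ (Fin r → ℤ))) (fun _ _ => True) j
    (trivSieve_of_split _ (Fin r → ℤ) ⟨AddEquiv.refl _⟩ hT)
    (trivSieve_mono _ _ (fun M _ h => ⟨trivial, h⟩) hG)
  obtain ⟨T₁, t, y, ⟨X, N, _, _, φ, ⟨eX⟩, -, hLF⟩, hy⟩ := exists_mem_of_mem hmem (t₀ y₀)
  have hm1 : Mono ((Over.pullback t).map j) := inferInstance
  have hm2 : Mono ((Over.pullback t).map j).left := inferInstance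
  have hm3 : Mono (Red.DSmap T₁ φ).left :=
    (hLF.prop_iff (MorphismProperty.monomorphisms Scheme.{u})).1 hm2
  have : Nonempty T₁ := ⟨y⟩
  have hsurj := surjective_of_mono_DSmap φ hm3
  obtain ⟨a, b, -⟩ := hLF
  have hfg : AddGroup.FG M₀ := by
    rw [← Module.Finite.iff_addGroup_fg]
    exact Module.Finite.of_surjective π.toIntLinearMap hπ
  obtain ⟨e0⟩ := addEquiv_of_two_charts t t₀ y y₀ hy b a₀ hfg
  -- e0 : M₀ ≃+ N
  refine le_of_surjective_fin
    (((eX.toAddMonoidHom.comp φ).comp e0.toAddMonoidHom).comp π) ?_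
  intro v
  obtain ⟨m, hm⟩ := hsurj (eX.symm v)
  obtain ⟨w, hw⟩ := hπ (e0.symm m)
  refine ⟨w, ?_⟩
  change eX (φ (e0 (π w))) = v
  rw [hw, AddEquiv.apply_symm_apply, hm, AddEquiv.apply_symm_apply]

/-- a factorisation through a monomorphic homomorphism is a homomorphism. -/
theorem isMonHom_of_comp_mono {C : Type*} [Category C] [CartesianMonoidalCategory C]
    {A B G : C} [MonObj A] [MonObj B] [MonObj G] (g : A ⟶ B) (j' : B ⟶ G) [IsMonHom j'] [Mono j']
    (hj : IsMonHom (g ≫ j')) : IsMonHom g where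
  one_hom := by
    rw [← cancel_mono j', Category.assoc, IsMonHom.one_hom (f := g ≫ j'), IsMonHom.one_hom]
  mul_hom := by
    rw [← cancel_mono j', Category.assoc, IsMonHom.mul_hom (f := g ≫ j'), Category.assoc,
      IsMonHom.mul_hom (f := j'), ← Category.assoc, ← MonoidalCategory.tensorHom_comp_tensorHom]

end Split

end Groth.Agent.H3.HomDiag
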