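import Mathlib
import Groth.Prelude.Def_Red2
import Groth.Prelude.Def_SGA3x
import Groth.Prelude.Def_RedSub
import Groth.Agent.Lib.Helper3.HomDiag.CanForm
import Groth.Agent.Lib.Helper3.HomDiag.QuotU
import Groth.Agent.Lib.Helper3.HomDiag.Split
import Groth.Agent.Lib.Helper3.OverUEE

/-! Quotients of split tori by subgroups of multiplicative type over a connected base (helper3). -/

set_option autoImplicit false

universe u

open CategoryTheory MonoidalCategory CartesianMonoidalCategory MonObj GrpObj AlgebraicGeometry Limits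
open Groth.Agent.H3.DSKit

namespace Groth.Agent.H3.HomDiag

section DSQuot

variable {S : Scheme.{u}} {M N : Type} [AddCommGroup M] [AddCommGroup N]

theorem lfp_DSmap (T : Scheme.{u}) (φ : N →+ M) (hM : AddGroup.FG M) (hN : AddGroup.FG N) :
    LocallyOfFinitePresentation (Red.DSmap T φ).left := by
  have hfgM : Monoid.FG (Multiplicative M) :=
    AddMonoid.fg_iff_mul_fg.1 (AddGroup.fg_iff_addMonoid_fg.1 hM)
  have hfgN : Monoid.FG (Multiplicative N) :=
    AddMonoid.fg_iff_mul_fg.1 (AddGroup.fg_iff_addMonoid_fg.1 hN)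
  have hnoe : IsNoetherianRing (ULift.{u} ℤ) :=
    isNoetherianRing_of_ringEquiv ℤ ULift.ringEquiv.symm
  have hftM : Algebra.FiniteType (ULift.{u} ℤ) (MonoidAlgebra (ULift.{u} ℤ) (Multiplicative M)) :=
    inferInstance
  have hftN : Algebra.FiniteType (ULift.{u} ℤ) (MonoidAlgebra (ULift.{u} ℤ) (Multiplicative N)) :=
    inferInstance
  have hnoeN : IsNoetherianRing (MonoidAlgebra (ULift.{u} ℤ) (Multiplicative N)) :=
    Algebra.FiniteType.isNoetherianRing (ULift.{u} ℤ) _
  have hfp : (MonoidAlgebra.mapDomainRingHom (ULift.{u} ℤ)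
      (AddMonoidHom.toMultiplicative φ)).FinitePresentation := by
    rw [← RingHom.FinitePresentation.of_finiteType]
    apply RingHom.FiniteType.of_comp_finiteType
      (f := algebraMap (ULift.{u} ℤ) (MonoidAlgebra (ULift.{u} ℤ) (Multiplicative N)))
    have hcomp : (MonoidAlgebra.mapDomainRingHom (ULift.{u} ℤ)
        (AddMonoidHom.toMultiplicative φ)).comp
        (algebraMap (ULift.{u} ℤ) (MonoidAlgebra (ULift.{u} ℤ) (Multiplicative N))) =
        algebraMap (ULift.{u} ℤ) (MonoidAlgebra (ULift.{u} ℤ) (Multiplicative M)) := by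
      ext x
      simp [MonoidAlgebra.coe_algebraMap]
    rw [hcomp]
    exact RingHom.finiteType_algebraMap.2 hftM
  have h : LocallyOfFinitePresentation (Spec.map (CommRingCat.ofHom
      (MonoidAlgebra.mapDomainRingHom (ULift.{u} ℤ) (AddMonoidHom.toMultiplicative φ)))) :=
    (LocallyOfFinitePresentation.SpecMap_iff _).2 hfp
  apply prop_DSmap T φ @LocallyOfFinitePresentation
  rw [diagMap_left]
  exact h

/-- `D_S` of an isomorphism of groups. -/
noncomputable def dsIso (S : Scheme.{u}) (e : M ≃+ N) :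
    Grp.mk (Red.DS S N) ≅ Grp.mk (Red.DS S M) :=
  Grp.mkIso' ⟨Red.DSmap S e.toAddMonoidHom, Red.DSmap S e.symm.toAddMonoidHom, by
    rw [← DSmap_comp]
    have : e.toAddMonoidHom.comp e.symm.toAddMonoidHom = AddMonoidHom.id N := by
      ext x
      simp
    rw [this, DSmap_id], by
    rw [← DSmap_comp]
    have : e.symm.toAddMonoidHom.comp e.toAddMonoidHom = AddMonoidHom.id M := by
      ext x
      simp
    rw [this, DSmap_id]⟩

theorem exists_addEquiv_fin {r : ℕ} (K : AddSubgroup (Fin r → ℤ)) :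
    ∃ r' : ℕ, r' ≤ r ∧ Nonempty (K ≃+ (Fin r' → ℤ)) := by
  let K' : Submodule ℤ (Fin r → ℤ) := AddSubgroup.toIntSubmodule K
  let b := Module.finBasis ℤ K'
  refine ⟨Module.finrank ℤ K', ?_, ⟨?_⟩⟩
  · have := Submodule.finrank_le K'
    simpa using this
  · let e0 : K ≃+ K' :=
      { toFun := fun x => ⟨x.1, x.2⟩
        invFun := fun x => ⟨x.1, x.2⟩
        left_inv := fun x => rfl
        right_inv := fun x => rfl
        map_add' := fun x y => rfl }
    exact e0.trans b.equivFun.toAddEquiv

end DSQuot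

end Groth.Agent.H3.HomDiag
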