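import Mathlib
import Groth.Prelude.Def_Red2
import Groth.Prelude.Def_SGA3x
import Groth.Prelude.Def_RedSub
import Groth.Agent.Lib.Helper3.HomDiag.DSQuot

/-! Quotients of split tori by subgroups of multiplicative type over a connected base: the main
theorem (helper3). -/

set_option autoImplicit false

universe u

open CategoryTheory MonoidalCategory CartesianMonoidalCategory MonObj GrpObj AlgebraicGeometry Limits
open Groth.Agent.H3.DSKit Groth.Agent.H3.GrpQuot

namespace Groth.Agent.H3.HomDiag

section DSQuot2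

variable {S : Scheme.{u}} {X : Type} [AddCommGroup X]

/-- the lattice of characters of `D_S(X)` which are trivial on `u : H ⟶ D_S(X)`. -/
noncomputable def charKer {H : Over S} (u : H ⟶ Red.DS S X) : AddSubgroup X :=
  Subgroup.toAddSubgroup' (chr u).toHomUnits.ker

theorem mem_charKer_iff {H : Over S} (u : H ⟶ Red.DS S X) (m : X) :
    m ∈ charKer u ↔ u ≫ Red.chi S m = 1 := by
  have h0 : m ∈ charKer u ↔ (chr u).toHomUnits (Multiplicative.ofAdd m) = 1 := Iff.rfl
  rw [h0]
  constructor
  · intro h
    apply chr_injective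
    rw [chr_one]
    have key : (chr (u ≫ Red.chi S m)).toHomUnits = 1 := by
      apply MonoidHom.ext_mint
      apply Units.ext
      rw [MonoidHom.coe_toHomUnits]
      change chr (u ≫ Red.DSmap S (zmultiplesHom X m)) _ = _
      rw [chr_comp_DSmap]
      have : (AddMonoidHom.toMultiplicative (zmultiplesHom X m)) (Multiplicative.ofAdd 1) =
          Multiplicative.ofAdd m := by
        simp
      rw [this, ← MonoidHom.coe_toHomUnits, h]
      rfl
    refine MonoidHom.ext fun n => ?_
    rw [← MonoidHom.coe_toHomUnits, key]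
    rfl
  · intro h
    apply Units.ext
    rw [MonoidHom.coe_toHomUnits]
    have h1 : chr (u ≫ Red.DSmap S (zmultiplesHom X m)) (Multiplicative.ofAdd (1 : ℤ)) =
        chr (1 : H ⟶ Red.DS S ℤ) (Multiplicative.ofAdd (1 : ℤ)) := by
      have h' : u ≫ Red.DSmap S (zmultiplesHom X m) = 1 := h
      rw [h']
    rw [chr_comp_DSmap, chr_one] at h1
    have : (AddMonoidHom.toMultiplicative (zmultiplesHom X m)) (Multiplicative.ofAdd 1) =
        Multiplicative.ofAdd m := by
      simp
    rw [this] at h1
    exact h1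

theorem quot_connected [PreconnectedSpace S] {T H Q : Over S} [GrpObj T] [GrpObj H] [GrpObj Q]
    (hX : AddGroup.FG X) (a : Grp.mk T ≅ Grp.mk (Red.DS S X)) (i : H ⟶ T) [IsMonHom i] [Mono i]
    (hH : SGA3x.IsMultTypeFT H) (q : T ⟶ Q) [IsMonHom q] (hq : RedSub.IsQuotient i q) :
    ∃ K : AddSubgroup X, Nonempty (Grp.mk Q ≅ Grp.mk (Red.DS S K)) := by
  have ha : IsMonHom a.hom.hom.hom := inferInstanceAs (IsMonHom a.hom.hom.hom)
  have hai : IsIso a.hom.hom.hom := ⟨a.inv.hom.hom, grp_hom_inv a, grp_inv_hom a⟩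
  let u : H ⟶ Red.DS S X := i ≫ a.hom.hom.hom
  have hu : IsMonHom u := inferInstance
  have hum : Mono u := mono_comp _ _
  let K : AddSubgroup X := charKer u
  let emb : K →+ X := K.subtype
  let p : X →+ X ⧸ K := QuotientAddGroup.mk' K
  have hp : Function.Surjective p := QuotientAddGroup.mk'_surjective K
  have hu1 : u ≫ Red.DSmap S emb = 1 := by
    apply chr_injective
    refine MonoidHom.ext fun k => ?_
    rw [chr_comp_DSmap, chr_one]
    have hk : (Multiplicative.toAdd k).1 ∈ K := (Multiplicative.toAdd k).2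
    have h1 : (chr u).toHomUnits (Multiplicative.ofAdd (Multiplicative.toAdd k).1) = 1 := hk
    have h2 := congrArg Units.val h1
    rw [MonoidHom.coe_toHomUnits] at h2
    exact h2
  have hker := isKernel_DSmap S emb p hp
    (fun n hn => ⟨⟨n, (QuotientAddGroup.eq_zero_iff n).1 hn⟩, rfl⟩)
    (by
      ext k
      exact (QuotientAddGroup.eq_zero_iff (k : X)).2 k.2)
  let ub : H ⟶ Red.DS S (X ⧸ K) := hker.lift u (toUnit H) (by rw [hu1, Hom.one_def])
  have hub : ub ≫ Red.DSmap S p = u := hker.lift_fst _ _ _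
  have hpm : Mono (Red.DSmap S p) := by
    have := mono_DSmap_of_surjective S p hp
    exact Over.mono_of_mono_left _
  have hubh : IsMonHom ub := isMonHom_of_comp_mono ub (Red.DSmap S p) (by rw [hub]; exact hu)
  have hubm : Mono ub := mono_of_mono_fac hub
  have hFGq : AddGroup.FG (X ⧸ K) := AddGroup.fg_of_surjective hp
  have hFGZ : AddGroup.FG ℤ := Module.Finite.iff_addGroup_fg.1 inferInstance
  have hmem := kerFormSieve_mem hFGq ub (trivSieve_of_isMultTypeFT hH)
  have hloc : (MorphismProperty.isomorphisms Scheme.{u}).IsLocalAtTarget Scheme.fpqcPrecoverage :=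
    Groth.Agent.H3.FpqcLocal.isLocalAtTarget_fpqc _
  have hiso : IsIso ub.left := by
    refine prop_of_sieve (MorphismProperty.isomorphisms Scheme.{u}) hmem ub ?_
    rintro T₁ t ⟨M, _, φ, hLF, hk⟩
    rw [hLF.prop_iff (MorphismProperty.isomorphisms Scheme.{u})]
    by_cases hne : Nonempty T₁
    · have hm1 : Mono ((Over.pullback t).map ub) := inferInstance
      have hm2 : Mono ((Over.pullback t).map ub).left := inferInstance
      have hm3 : Mono (Red.DSmap T₁ φ).left :=
        (hLF.prop_iff (MorphismProperty.monomorphisms Scheme.{u})).1 hm2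
      have hsurj := surjective_of_mono_DSmap φ hm3
      have hinj : Function.Injective φ := by
        rw [injective_iff_map_eq_zero]
        intro n hn
        obtain ⟨m, rfl⟩ := hp n
        have h1 := hk _ hn
        have h2 : ub ≫ Red.chi S (p m) = u ≫ Red.chi S m := by
          change ub ≫ Red.DSmap S (zmultiplesHom _ (p m)) = u ≫ Red.DSmap S (zmultiplesHom X m)
          rw [← zmultiplesHom_comp p m, DSmap_comp, ← Category.assoc, hub]
        rw [h2] at h1
        have hchi : IsMonHom (Red.chi S m) := isMonHom_DSmap S (zmultiplesHom X m)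
        have hwm : IsMonHom (u ≫ Red.chi S m) := inferInstance
        have h3 : u ≫ Red.chi S m = 1 :=
          triv_of_nonempty (u ≫ Red.chi S m)
            (locFormSieve_mem _ (trivSieve_of_isMultTypeFT hH) (trivSieve_self _ ℤ hFGZ)) t h1
        exact (QuotientAddGroup.eq_zero_iff m).2 ((mem_charKer_iff u m).2 h3)
      exact isIso_DSmap_of_bijective T₁ φ ⟨hinj, hsurj⟩
    · have h1 : IsEmpty T₁ := not_nonempty_iff.1 hne
      have h2 : IsEmpty (Red.DS T₁ (X ⧸ K)).left := Function.isEmpty (Red.DS T₁ (X ⧸ K)).hom.base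
      exact MorphismProperty.isomorphisms.infer_property _
  have hubi : IsIso ub := by
    have : IsIso ((Over.forget S).map ub) := hiso
    exact isIso_of_reflects_iso ub (Over.forget S)
  -- the candidate quotient
  let q' : T ⟶ Red.DS S K := a.hom.hom.hom ≫ Red.DSmap S emb
  have hq'm : IsMonHom q' := inferInstance
  have hk' : IsPullback i (toUnit H) q' η[Red.DS S K] := by
    refine IsPullback.of_iso hker (asIso ub).symm (asIso a.hom.hom.hom).symm (Iso.refl _)
      (Iso.refl _) ?_ ?_ ?_ ?_
    · change Red.DSmap S p ≫ inv a.hom.hom.hom = inv ub ≫ i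
      rw [IsIso.eq_inv_comp, ← Category.assoc, hub, Category.assoc, IsIso.hom_inv_id,
        Category.comp_id]
    · exact toUnit_unique _ _
    · change Red.DSmap S emb ≫ 𝟙 _ = inv a.hom.hom.hom ≫ a.hom.hom.hom ≫ Red.DSmap S emb
      rw [IsIso.inv_hom_id_assoc, Category.comp_id]
    · change η[Red.DS S K] ≫ 𝟙 _ = 𝟙 _ ≫ η[Red.DS S K]
      rw [Category.comp_id, Category.id_comp]
  have hkp' : IsKernelPair q' (fst T H) (mmul i) := isKernelPair_of_isKernel i q' hk'
  obtain ⟨hq1, hq2, hq3, hkp⟩ := hq
  have huee := Groth.Agent.H3.OverUEE.uee_of_fppf q hq1 hq2 hq3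
  have hι : Function.Injective emb := Subtype.val_injective
  obtain ⟨hf1, hf2⟩ := ff_DSmap_of_injective S emb hι
  have hFGK : AddGroup.FG K := by
    have : IsNoetherian ℤ X := by
      have : Module.Finite ℤ X := Module.Finite.iff_addGroup_fg.2 hX
      exact isNoetherian_of_isNoetherianRing_of_finite ℤ X
    have h1 : Module.Finite ℤ (AddSubgroup.toIntSubmodule K) :=
      Module.IsNoetherian.finite ℤ _
    exact Module.Finite.iff_addGroup_fg.1 h1
  have hf3 := lfp_DSmap S emb hX hFGK
  have hail : IsIso a.hom.hom.hom.left := (Over.forget S).map_isIso a.hom.hom.hom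
  have hq'l : q'.left = a.hom.hom.hom.left ≫ (Red.DSmap S emb).left := rfl
  have huee' := Groth.Agent.H3.OverUEE.uee_of_fppf q'
    (by rw [hq'l]; infer_instance) (by rw [hq'l]; infer_instance) (by rw [hq'l]; infer_instance)
  obtain ⟨e, -⟩ := quot_unique i q q' hkp huee hkp' huee'
  exact ⟨K, ⟨e⟩⟩

end DSQuot2

end Groth.Agent.H3.HomDiag
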