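import Mathlib
import Groth.Prelude.Def_Red2
import Groth.Agent.Lib.Helper3.HomDiag.CanForm

/-! Local constancy of the kernel lattice of a homomorphism into a split diagonalisable group
(helper3). -/

set_option autoImplicit false

universe u

open CategoryTheory MonoidalCategory CartesianMonoidalCategory MonObj GrpObj AlgebraicGeometry Limits
open Groth.Agent.H3.DSKit Groth.Agent.H3.RigidAct

namespace Groth.Agent.H3.HomDiag

section Loc1

variable {S : Scheme.{u}} {G : Over S} [GrpObj G] {X : Type} [AddCommGroup X]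

/-- charts on which `u : G ⟶ D_S(X)` has the form `D(φ)` with `φ : X → M`, compatibly with all
characters of `D_S(X)`. -/
def kerFormSieve2 (u : G ⟶ Red.DS S X) : Sieve S where
  arrows T t := ∃ (M : Type) (_ : AddCommGroup M) (φ : X →+ M), LocForm u t φ ∧
    ∀ m : X, LocForm (u ≫ Red.chi S m) t (zmultiplesHom M (φ m))
  downward_closed := by
    rintro T T' t ⟨M, _, φ, hLF, hk⟩ t'
    exact ⟨M, _, φ, hLF.precomp t', fun m => (hk m).precomp t'⟩

theorem kerFormSieve2_mem (hX : AddGroup.FG X) (u : G ⟶ Red.DS S X) [IsMonHom u]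
    (hG : trivSieve (fun _ _ => True) G ∈ Scheme.fpqcTopology S) :
    kerFormSieve2 u ∈ Scheme.fpqcTopology S := by
  refine GrothendieckTopology.transitive _ hG _ ?_
  rintro T t ⟨M, _, -, ⟨a⟩⟩
  apply mem_fpqc_of_openCover
  intro x
  obtain ⟨_, ⟨V, hV, rfl⟩, hxV, -⟩ := T.isBasis_affineOpens.exists_subset_of_mem_open
    (Set.mem_univ x) isOpen_univ
  let R : CommRingCat.{u} := Γ(T, V)
  let s₀ : Spec R ⟶ T := hV.fromSpec
  obtain ⟨p, hp⟩ : ∃ p : PrimeSpectrum R, s₀ p = x := by
    have : x ∈ Set.range s₀.base := by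
      rw [hV.range_fromSpec]
      exact hxV
    exact this
  have hmon : IsMonHom ((Over.pullback t).map u) := inferInstance
  obtain ⟨e, φ, hep, hid, hcore⟩ := core a (dsBC t X) ((Over.pullback t).map u) hX s₀ p
  let j : Spec (CommRingCat.of (Localization.Away e)) ⟶ T :=
    Spec.map (CommRingCat.ofHom (algebraMap R (Localization.Away e))) ≫ s₀
  refine ⟨_, j, inferInstance, ?_, ?_⟩
  · have hpe : p ∈ Set.range (Spec.map (CommRingCat.ofHom
        (algebraMap R (Localization.Away e)))).base := by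
      have h1 := PrimeSpectrum.localization_away_comap_range (Localization.Away e) e
      have h2 : p ∈ (PrimeSpectrum.basicOpen e : Set (PrimeSpectrum R)) := hep
      rw [← h1] at h2
      exact h2
    obtain ⟨q, hq⟩ := hpe
    exact ⟨q, by rw [Scheme.Hom.comp_apply, hq, hp]⟩
  · change kerFormSieve2 u (j ≫ t)
    have hmap := map_eq_of_core a (dsBC t X) ((Over.pullback t).map u) s₀ e φ hid hcore
    refine ⟨M, _, φ, LocForm.of_map_eq a (dsBC t X) j hmap, fun m => ?_⟩
    refine LocForm.of_map_eq a (dsBC t ℤ) j ?_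
    have hnat : (Over.pullback t).map (Red.chi S m) ≫ (dsBC t ℤ).hom.hom.hom =
        (dsBC t X).hom.hom.hom ≫ Red.chi T m := dsBC_natural t (zmultiplesHom X m)
    have h1 : (Over.pullback t).map (u ≫ Red.chi S m) ≫ (dsBC t ℤ).hom.hom.hom =
        ((Over.pullback t).map u ≫ (dsBC t X).hom.hom.hom) ≫ Red.chi T m := by
      rw [Functor.map_comp, Category.assoc, hnat, Category.assoc]
    have hmap' : (Over.pullback j).map ((Over.pullback t).map u ≫ (dsBC t X).hom.hom.hom) =
        (Over.pullback j).map (a.hom.hom.hom ≫ Red.DSmap T φ) := hmap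
    have h2 : Red.DSmap T φ ≫ Red.chi T m = Red.DSmap T (zmultiplesHom M (φ m)) := by
      change Red.DSmap T φ ≫ Red.DSmap T (zmultiplesHom X m) = _
      rw [← DSmap_comp, zmultiplesHom_comp]
    rw [h1, Functor.map_comp, hmap', ← Functor.map_comp, Category.assoc, h2]

omit [GrpObj G] in
/-- a homomorphism trivial over a non-empty base change is trivial at the points of its image. -/
theorem trivAt_of_bc {H : Over S} [GrpObj H] (w : G ⟶ H) {T : Scheme.{u}} (t : T ⟶ S) (x : T)
    (h : (Over.pullback t).map w = 1) :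
    (Over.pullback (S.fromSpecResidueField (t x))).map w = 1 := by
  have hc : Spec.map (t.residueFieldMap x) ≫ S.fromSpecResidueField (t x) =
      T.fromSpecResidueField x ≫ t := Scheme.Hom.SpecMap_residueFieldMap_fromSpecResidueField t x
  have := flat_residueFieldMap t x
  have := surjective_residueFieldMap t x
  have h1 := bc_eq_comp (T.fromSpecResidueField x) t w 1 (by rw [h, bc_one])
  rw [← hc] at h1
  have h2 := bc_eq_of_comp_fpqc (Spec.map (t.residueFieldMap x))
    (S.fromSpecResidueField (t x)) w 1 h1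
  rwa [bc_one] at h2

/-- a homomorphism which is trivial at all points of the image of `t₀` is trivial over `t₀`. -/
theorem triv_over {H : Over S} [GrpObj H] (w : G ⟶ H)
    (h𝒯 : locFormSieve w ∈ Scheme.fpqcTopology S) {T₀ : Scheme.{u}} (t₀ : T₀ ⟶ S)
    (h : ∀ x : T₀, (Over.pullback (S.fromSpecResidueField (t₀ x))).map w = 1) :
    (Over.pullback t₀).map w = 1 := by
  rw [← bc_one t₀]
  refine eq_of_sieve (GrothendieckTopology.pullback_stable _ t₀ h𝒯) _ _ ?_
  rintro T' t' ⟨M, N, _, _, φ, hLF⟩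
  apply bc_eq_of_comp t' t₀ w 1
  rw [bc_one]
  by_cases hT : Nonempty T'
  · obtain ⟨x⟩ := hT
    have : Nonempty T' := ⟨x⟩
    refine hLF.triv_iff.2 ((triv_fibre_iff w hLF x).1 ?_)
    rw [Scheme.Hom.comp_apply]
    exact h (t' x)
  · have h1 : IsEmpty T' := not_nonempty_iff.1 hT
    have h2 : IsEmpty (Red.bc (t' ≫ t₀) G).left := Function.isEmpty (Red.bc (t' ≫ t₀) G).hom.base
    apply Over.OverMorphism.ext
    exact (isInitialOfIsEmpty (X := (Red.bc (t' ≫ t₀) G).left)).hom_ext _ _

theorem zmultiplesHom_eq_zero_iff {M : Type} [AddCommGroup M] (m : M) :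
    zmultiplesHom M m = 0 ↔ m = 0 := by
  constructor
  · intro h
    have := congrArg (fun f : ℤ →+ M => f 1) h
    simpa using this
  · rintro rfl
    ext
    simp

/-- **Local constancy of the kernel lattice.** -/
theorem exists_open_kernel (hX : AddGroup.FG X) (u : G ⟶ Red.DS S X) [IsMonHom u]
    (hG : trivSieve (fun _ _ => True) G ∈ Scheme.fpqcTopology S) (s : S) :
    ∃ (V : S.Opens) (K : AddSubgroup X), s ∈ V ∧ ∀ s' : S, s' ∈ V → ∀ m : X,
      ((Over.pullback (S.fromSpecResidueField s')).map (u ≫ Red.chi S m) = 1 ↔ m ∈ K) := by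
  have hmem := kerFormSieve2_mem hX u hG
  obtain ⟨T₀, t₀, y₀, ⟨M₀, _, φ₀, -, hch₀⟩, hy₀⟩ := exists_mem_of_mem hmem s
  let K : AddSubgroup X := φ₀.ker
  have hs : ∀ m : X, (Over.pullback (S.fromSpecResidueField s)).map (u ≫ Red.chi S m) = 1 ↔
      m ∈ K := by
    intro m
    rw [← hy₀, triv_fibre_iff (u ≫ Red.chi S m) (hch₀ m) y₀, zmultiplesHom_eq_zero_iff]
    exact (AddMonoidHom.mem_ker).symm
  let A : Set S := {s' | ∀ m : X,
    ((Over.pullback (S.fromSpecResidueField s')).map (u ≫ Red.chi S m) = 1 ↔ m ∈ K)}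
  have hopen : IsOpen A := by
    refine isOpen_of_sieve hmem A ?_
    rintro T t ⟨M, _, φ, -, hch⟩
    have hpt : ∀ y : T, t y ∈ A ↔ ∀ m : X, (φ m = 0 ↔ m ∈ K) := by
      intro y
      refine forall_congr' fun m => ?_
      rw [triv_fibre_iff (u ≫ Red.chi S m) (hch m) y, zmultiplesHom_eq_zero_iff]
    by_cases hQ : ∀ m : X, (φ m = 0 ↔ m ∈ K)
    · have : t.base ⁻¹' A = Set.univ := by
        ext y
        simp only [Set.mem_preimage, Set.mem_univ, iff_true]
        exact (hpt y).2 hQ
      rw [this]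
      exact isOpen_univ
    · have : t.base ⁻¹' A = ∅ := by
        ext y
        simp only [Set.mem_preimage, Set.mem_empty_iff_false, iff_false]
        exact fun h => hQ ((hpt y).1 h)
      rw [this]
      exact isOpen_empty
  exact ⟨⟨A, hopen⟩, K, hs, fun s' hs' => hs'⟩

end Loc1

end Groth.Agent.H3.HomDiag
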