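import Mathlib
import Groth.Prelude.Def_Red2
import Groth.Prelude.Def_SGA3x
import Groth.Prelude.Def_RedSub
import Groth.Agent.Lib.Helper3.HomDiag.Loc1
import Groth.Agent.Lib.Helper3.HomDiag.DSQuot2

/-! Quotients of split tori by subgroups of multiplicative type, Zariski-locally on the base
(helper3). -/

set_option autoImplicit false

universe u

open CategoryTheory MonoidalCategory CartesianMonoidalCategory MonObj GrpObj AlgebraicGeometry Limits
open Groth.Agent.H3.DSKit Groth.Agent.H3.GrpQuot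

namespace Groth.Agent.H3.HomDiag

section BCQuot

variable {S T : Scheme.{u}} (t : T ⟶ S)

open Functor.LaxMonoidal Functor.Monoidal in
/-- fppf quotients are stable under base change. -/
theorem isQuotient_bc {G H Q : Over S} [GrpObj G] [GrpObj H] (i : H ⟶ G) (q : G ⟶ Q)
    (hq : RedSub.IsQuotient i q) :
    RedSub.IsQuotient ((Over.pullback t).map i) ((Over.pullback t).map q) := by
  obtain ⟨h1, h2, h3, hkp⟩ := hq
  have sq := Groth.Agent.H3.isPullback_overPullback_map t q
  refine ⟨MorphismProperty.of_isPullback (P := @Surjective) sq.flip h1,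
    MorphismProperty.of_isPullback (P := @Flat) sq.flip h2,
    MorphismProperty.of_isPullback (P := @LocallyOfFinitePresentation) sq.flip h3, ?_⟩
  have hpres : PreservesLimit (cospan q q) (Over.pullback t) :=
    (Over.mapPullbackAdj t).rightAdjoint_preservesLimits.preservesLimitsOfShape.preservesLimit
  have hF := hkp.map (Over.pullback t)
  refine IsPullback.of_iso hF (μIso (Over.pullback t) G H).symm (Iso.refl _) (Iso.refl _)
    (Iso.refl _) ?_ ?_ ?_ ?_
  · change (Over.pullback t).map (fst G H) ≫ 𝟙 _ = (μIso (Over.pullback t) G H).inv ≫ fst _ _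
    rw [Category.comp_id, Iso.eq_inv_comp]
    exact μ_fst (Over.pullback t) G H
  · change (Over.pullback t).map ((G ◁ i) ≫ μ[G]) ≫ 𝟙 _ =
      (μIso (Over.pullback t) G H).inv ≫ ((Over.pullback t).obj G ◁ (Over.pullback t).map i) ≫
        μ[(Over.pullback t).obj G]
    rw [Category.comp_id, Iso.eq_inv_comp]
    change Functor.LaxMonoidal.μ (Over.pullback t) G H ≫ _ = _
    rw [Functor.map_comp, ← Category.assoc, ← μ_natural_right]
    rfl
  · simp
  · simp

theorem trivSieve_bc (Pr : ∀ (M : Type) [AddCommGroup M], Prop) {H : Over S} [GrpObj H]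
    (h : trivSieve Pr H ∈ Scheme.fpqcTopology S) :
    trivSieve Pr (Red.bc t H) ∈ Scheme.fpqcTopology T := by
  refine GrothendieckTopology.superset_covering _ ?_ (GrothendieckTopology.pullback_stable _ t h)
  rintro T' t' ⟨M, _, hM, ⟨a⟩⟩
  exact ⟨M, _, hM, ⟨(bcComp t' t H).symm ≪≫ a⟩⟩

end BCQuot

section Loc2

variable {S : Scheme.{u}} {X : Type} [AddCommGroup X]

theorem quot_of_kernel {T H Q : Over S} [GrpObj T] [GrpObj H] [GrpObj Q]
    (hX : AddGroup.FG X) (a : Grp.mk T ≅ Grp.mk (Red.DS S X)) (i : H ⟶ T) [IsMonHom i] [Mono i]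
    (hH : trivSieve (fun _ _ => True) H ∈ Scheme.fpqcTopology S) (q : T ⟶ Q) [IsMonHom q]
    (hq : RedSub.IsQuotient i q) (K : AddSubgroup X)
    (hB1 : ∀ m ∈ K, (i ≫ a.hom.hom.hom) ≫ Red.chi S m = 1)
    (hB2 : ∀ {T₁ : Scheme.{u}} (t : T₁ ⟶ S) [Nonempty T₁] (m : X),
      (Over.pullback t).map ((i ≫ a.hom.hom.hom) ≫ Red.chi S m) = 1 → m ∈ K) :
    Nonempty (Grp.mk Q ≅ Grp.mk (Red.DS S K)) := by
  have ha : IsMonHom a.hom.hom.hom := inferInstanceAs (IsMonHom a.hom.hom.hom)
  have hai : IsIso a.hom.hom.hom := ⟨a.inv.hom.hom, grp_hom_inv a, grp_inv_hom a⟩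
  let u : H ⟶ Red.DS S X := i ≫ a.hom.hom.hom
  have hu : IsMonHom u := inferInstance
  have hum : Mono u := mono_comp _ _
  let emb : K →+ X := K.subtype
  let p : X →+ X ⧸ K := QuotientAddGroup.mk' K
  have hp : Function.Surjective p := QuotientAddGroup.mk'_surjective K
  have hu1 : u ≫ Red.DSmap S emb = 1 := by
    apply chr_injective
    refine MonoidHom.ext fun k => ?_
    rw [chr_comp_DSmap, chr_one]
    have hk : (Multiplicative.toAdd k).1 ∈ charKer u :=
      (mem_charKer_iff u _).2 (hB1 _ (Multiplicative.toAdd k).2)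
    have h1 : (chr u).toHomUnits (Multiplicative.ofAdd (Multiplicative.toAdd k).1) = 1 := hk
    have h2 := congrArg Units.val h1
    rw [MonoidHom.coe_toHomUnits] at h2
    exact h2
  have hker := isKernel_DSmap S emb p hp
    (fun n hn => ⟨⟨n, (QuotientAddGroup.eq_zero_iff n).1 hn⟩, rfl⟩)
    (by
      ext k
      exact (QuotientAddGroup.eq_zero_iff (k : X)).2 k.2)
  let ub : H ⟶ Red.DS S (X ⧸ K) := hker.lift u (toUnit H) (by rw [hu1, Hom.one_def])
  have hub : ub ≫ Red.DSmap S p = u := hker.lift_fst _ _ _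
  have hpm : Mono (Red.DSmap S p) := by
    have := mono_DSmap_of_surjective S p hp
    exact Over.mono_of_mono_left _
  have hubh : IsMonHom ub := isMonHom_of_comp_mono ub (Red.DSmap S p) (by rw [hub]; exact hu)
  have hubm : Mono ub := mono_of_mono_fac hub
  have hFGq : AddGroup.FG (X ⧸ K) := AddGroup.fg_of_surjective hp
  have hmem := kerFormSieve_mem hFGq ub hH
  have hloc : (MorphismProperty.isomorphisms Scheme.{u}).IsLocalAtTarget Scheme.fpqcPrecoverage :=
    Groth.Agent.H3.FpqcLocal.isLocalAtTarget_fpqc _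
  have hiso : IsIso ub.left := by
    refine prop_of_sieve (MorphismProperty.isomorphisms Scheme.{u}) hmem ub ?_
    rintro T₁ t ⟨M, _, φ, hLF, hk⟩
    rw [hLF.prop_iff (MorphismProperty.isomorphisms Scheme.{u})]
    by_cases hne : Nonempty T₁
    · have hm1 : Mono ((Over.pullback t).map ub) := inferInstance
      have hm2 : Mono ((Over.pullback t).map ub).left := inferInstance
      have hm3 : Mono (Red.DSmap T₁ φ).left :=
        (hLF.prop_iff (MorphismProperty.monomorphisms Scheme.{u})).1 hm2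
      have hsurj := surjective_of_mono_DSmap φ hm3
      have hinj : Function.Injective φ := by
        rw [injective_iff_map_eq_zero]
        intro n hn
        obtain ⟨m, rfl⟩ := hp n
        have h1 := hk _ hn
        have h2 : ub ≫ Red.chi S (p m) = u ≫ Red.chi S m := by
          change ub ≫ Red.DSmap S (zmultiplesHom _ (p m)) = u ≫ Red.DSmap S (zmultiplesHom X m)
          rw [← zmultiplesHom_comp p m, DSmap_comp, ← Category.assoc, hub]
        rw [h2] at h1
        exact (QuotientAddGroup.eq_zero_iff m).2 (hB2 t m h1)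
      exact isIso_DSmap_of_bijective T₁ φ ⟨hinj, hsurj⟩
    · have h1 : IsEmpty T₁ := not_nonempty_iff.1 hne
      have h2 : IsEmpty (Red.DS T₁ (X ⧸ K)).left := Function.isEmpty (Red.DS T₁ (X ⧸ K)).hom.base
      exact MorphismProperty.isomorphisms.infer_property _
  have hubi : IsIso ub := by
    have : IsIso ((Over.forget S).map ub) := hiso
    exact isIso_of_reflects_iso ub (Over.forget S)
  let q' : T ⟶ Red.DS S K := a.hom.hom.hom ≫ Red.DSmap S emb
  have hq'm : IsMonHom q' := inferInstance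
  have hk' : IsPullback i (toUnit H) q' η[Red.DS S K] := by
    refine IsPullback.of_iso hker (asIso ub).symm (asIso a.hom.hom.hom).symm (Iso.refl _)
      (Iso.refl _) ?_ ?_ ?_ ?_
    · change Red.DSmap S p ≫ inv a.hom.hom.hom = inv ub ≫ i
      rw [IsIso.eq_inv_comp, ← Category.assoc, hub, Category.assoc, IsIso.hom_inv_id,
        Category.comp_id]
    · exact toUnit_unique _ _
    · change Red.DSmap S emb ≫ 𝟙 _ = inv a.hom.hom.hom ≫ a.hom.hom.hom ≫ Red.DSmap S emb
      rw [IsIso.inv_hom_id_assoc, Category.comp_id]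
    · change η[Red.DS S K] ≫ 𝟙 _ = 𝟙 _ ≫ η[Red.DS S K]
      rw [Category.comp_id, Category.id_comp]
  have hkp' : IsKernelPair q' (fst T H) (mmul i) := isKernelPair_of_isKernel i q' hk'
  obtain ⟨hq1, hq2, hq3, hkp⟩ := hq
  have huee := Groth.Agent.H3.OverUEE.uee_of_fppf q hq1 hq2 hq3
  have hι : Function.Injective emb := Subtype.val_injective
  obtain ⟨hf1, hf2⟩ := ff_DSmap_of_injective S emb hι
  have hFGK : AddGroup.FG K := by
    have : IsNoetherian ℤ X := by
      have : Module.Finite ℤ X := Module.Finite.iff_addGroup_fg.2 hX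
      exact isNoetherian_of_isNoetherianRing_of_finite ℤ X
    have h1 : Module.Finite ℤ (AddSubgroup.toIntSubmodule K) :=
      Module.IsNoetherian.finite ℤ _
    exact Module.Finite.iff_addGroup_fg.1 h1
  have hf3 := lfp_DSmap S emb hX hFGK
  have hail : IsIso a.hom.hom.hom.left := (Over.forget S).map_isIso a.hom.hom.hom
  have hq'l : q'.left = a.hom.hom.hom.left ≫ (Red.DSmap S emb).left := rfl
  have huee' := Groth.Agent.H3.OverUEE.uee_of_fppf q'
    (by rw [hq'l]; infer_instance) (by rw [hq'l]; infer_instance) (by rw [hq'l]; infer_instance)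
  obtain ⟨e, -⟩ := quot_unique i q q' hkp huee hkp' huee'
  exact ⟨e⟩

theorem quot_local {T H Q : Over S} [GrpObj T] [GrpObj H] [GrpObj Q]
    (hX : AddGroup.FG X) (a : Grp.mk T ≅ Grp.mk (Red.DS S X)) (i : H ⟶ T) [IsMonHom i] [Mono i]
    (hH : trivSieve (fun _ _ => True) H ∈ Scheme.fpqcTopology S) (q : T ⟶ Q) [IsMonHom q]
    (hq : RedSub.IsQuotient i q) (s : S) :
    ∃ (V : S.Opens) (K : AddSubgroup X), s ∈ V ∧
      Nonempty (Grp.mk (Red.bc V.ι Q) ≅ Grp.mk (Red.DS V K)) := by
  have ha : IsMonHom a.hom.hom.hom := inferInstanceAs (IsMonHom a.hom.hom.hom)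
  let u : H ⟶ Red.DS S X := i ≫ a.hom.hom.hom
  have hu : IsMonHom u := inferInstance
  obtain ⟨V, K, hsV, hV⟩ := exists_open_kernel hX u hH s
  refine ⟨V, K, hsV, ?_⟩
  have hFGZ : AddGroup.FG ℤ := Module.Finite.iff_addGroup_fg.1 inferInstance
  have hmono : Mono ((Over.pullback V.ι).map i) := inferInstance
  have hCT : ∀ m : X, ((Over.pullback V.ι).map i ≫ (splitBC V.ι a).hom.hom.hom) ≫ Red.chi V m =
      (Over.pullback V.ι).map (u ≫ Red.chi S m) ≫ (dsBC V.ι ℤ).hom.hom.hom := by
    intro m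
    have hnat : (Over.pullback V.ι).map (Red.chi S m) ≫ (dsBC V.ι ℤ).hom.hom.hom =
        (dsBC V.ι X).hom.hom.hom ≫ Red.chi V m := dsBC_natural V.ι (zmultiplesHom X m)
    have hs : (splitBC V.ι a).hom.hom.hom =
        (Over.pullback V.ι).map a.hom.hom.hom ≫ (dsBC V.ι X).hom.hom.hom := rfl
    have hu' : (Over.pullback V.ι).map u =
        (Over.pullback V.ι).map i ≫ (Over.pullback V.ι).map a.hom.hom.hom :=
      Functor.map_comp _ _ _
    rw [hs, Functor.map_comp, hu']
    simp only [Category.assoc]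
    rw [hnat]
  have hwm : ∀ m : X, IsMonHom (u ≫ Red.chi S m) := by
    intro m
    have hchi : IsMonHom (Red.chi S m) := isMonHom_DSmap S (zmultiplesHom X m)
    infer_instance
  refine quot_of_kernel hX (splitBC V.ι a) ((Over.pullback V.ι).map i) (trivSieve_bc V.ι _ hH)
    ((Over.pullback V.ι).map q) (isQuotient_bc V.ι i q hq) K ?_ ?_
  · intro m hm
    rw [hCT m]
    have := hwm m
    have h1 : (Over.pullback V.ι).map (u ≫ Red.chi S m) = 1 :=
      triv_over (u ≫ Red.chi S m)
        (locFormSieve_mem _ (trivSieve_mono _ _ (fun _ _ h => h) hH) (trivSieve_self _ ℤ hFGZ)) V.ι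
        (fun x => (hV (V.ι x) x.2 m).2 hm)
    rw [h1]
    exact one_comp_iso (dsBC V.ι ℤ)
  · intro T₁ t _ m h
    rw [hCT m] at h
    have h1 : (Over.pullback t).map ((Over.pullback V.ι).map (u ≫ Red.chi S m)) = 1 := by
      apply eq_one_of_comp_iso _ ((Over.pullback t).mapGrp.mapIso (dsBC V.ι ℤ))
      rw [Functor.map_comp] at h
      exact h
    have h2 := bc_comp_eq_of t V.ι (u ≫ Red.chi S m) 1 (by rw [h1, bc_one, bc_one])
    rw [bc_one] at h2
    obtain ⟨x⟩ := ‹Nonempty T₁›
    have h3 := trivAt_of_bc (u ≫ Red.chi S m) (t ≫ V.ι) x h2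
    exact (hV _ (t x).2 m).1 h3

end Loc2

end Groth.Agent.H3.HomDiag
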