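import Mathlib
import Groth.Prelude.Def_Red2
import Groth.Prelude.Def_SGA3x
import Groth.Prelude.Def_AlgGrp
import Groth.Agent.Lib.Helper3.HomDiag.Img3

/-! Homomorphisms between diagonalisable groups over a field; exact sequences of split tori split
(helper3). -/

set_option autoImplicit false

universe u

open CategoryTheory MonoidalCategory CartesianMonoidalCategory MonObj GrpObj AlgebraicGeometry Limits
open Groth.Agent.H3.DSKit Groth.Agent.H3.GrpQuot Groth.Agent.H4.GaGm Groth.Agent.H3.RigidAct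

namespace Groth.Agent.H3.HomDiag

section FieldHom

variable (k : Type u) [Field k] {G H : Over (Spec (CommRingCat.of k))} [GrpObj G] [GrpObj H]
  {M N : Type} [AddCommGroup M] [AddCommGroup N]

/-- over a field, a homomorphism between diagonalisable groups comes from a homomorphism of
character groups. -/
theorem hom_eq_DSmap_of_field (a : Grp.mk G ≅ Grp.mk (Red.DS (Spec (CommRingCat.of k)) M))
    (b : Grp.mk H ≅ Grp.mk (Red.DS (Spec (CommRingCat.of k)) N)) (u : G ⟶ H) [IsMonHom u]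
    (hN : AddGroup.FG N) :
    ∃ φ : N →+ M, u ≫ b.hom.hom.hom = a.hom.hom.hom ≫ Red.DSmap (Spec (CommRingCat.of k)) φ := by
  let p : PrimeSpectrum (CommRingCat.of k) := ⟨⊥, Ideal.isPrime_bot⟩
  obtain ⟨e, φ, hep, hid, hcore⟩ := core a b u hN (𝟙 (Spec (CommRingCat.of k))) p
  have hmap := map_eq_of_core a b u (𝟙 (Spec (CommRingCat.of k))) e φ hid hcore
  refine ⟨φ, ?_⟩
  set j : Spec (CommRingCat.of (Localization.Away e)) ⟶ Spec (CommRingCat.of k) :=
    Spec.map (CommRingCat.ofHom (algebraMap (CommRingCat.of k) (Localization.Away e))) ≫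
      𝟙 (Spec (CommRingCat.of k)) with hj
  have hopen : IsOpenImmersion j := inferInstance
  have hsurj : Surjective j := by
    have hpe : p ∈ Set.range (Spec.map (CommRingCat.ofHom
        (algebraMap (CommRingCat.of k) (Localization.Away e)))).base := by
      have h1 := PrimeSpectrum.localization_away_comap_range (Localization.Away e) e
      have h2 : p ∈ (PrimeSpectrum.basicOpen e : Set (PrimeSpectrum (CommRingCat.of k))) := hep
      rw [← h1] at h2
      exact h2
    obtain ⟨q, hq⟩ := hpe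
    refine ⟨fun x => ⟨q, ?_⟩⟩
    exact Subsingleton.elim (α := PrimeSpectrum k) _ _
  have hmem : Sieve.generate (Presieve.singleton j) ∈
      Scheme.fpqcTopology (Spec (CommRingCat.of k)) :=
    Precoverage.generate_mem_toGrothendieck (Scheme.Hom.singleton_mem_fpqcPrecoverage j)
  refine eq_of_sieve hmem _ _ ?_
  rintro T t ⟨T', g, j', ⟨⟩, rfl⟩
  exact bc_eq_comp g j _ _ hmap

end FieldHom

section Split

variable (k : Type u) [Field k] {K G Q : Over (Spec (CommRingCat.of k))} [GrpObj K] [GrpObj G]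
  [GrpObj Q]

/-- over a field, an exact sequence of diagonalisable groups whose kernel has a free character group
splits. -/
theorem exact_diag_splits {MK MG MQ : Type} [AddCommGroup MK] [AddCommGroup MG] [AddCommGroup MQ]
    [Module.Free ℤ MK] (hMGfg : AddGroup.FG MG) (hMQfg : AddGroup.FG MQ)
    (aK : Grp.mk K ≅ Grp.mk (Red.DS (Spec (CommRingCat.of k)) MK))
    (aG : Grp.mk G ≅ Grp.mk (Red.DS (Spec (CommRingCat.of k)) MG))
    (aQ : Grp.mk Q ≅ Grp.mk (Red.DS (Spec (CommRingCat.of k)) MQ))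
    (i : K ⟶ G) [IsMonHom i] (π : G ⟶ Q) [IsMonHom π] (hfl : Flat π.left)
    (hsu : Surjective π.left) (hker : IsPullback i (toUnit K) π η[Q]) :
    ∃ s : Q ⟶ G, IsMonHom s ∧ s ≫ π = 𝟙 Q := by
  obtain ⟨φ, hφ⟩ := hom_eq_DSmap_of_field k aG aQ π hMQfg
  let pr : MG →+ MG ⧸ φ.range := QuotientAddGroup.mk' φ.range
  have hpr : Function.Surjective pr := QuotientAddGroup.mk'_surjective _
  have hkerD := isKernel_DSmap (Spec (CommRingCat.of k)) φ pr hpr
    (fun n hn => (QuotientAddGroup.eq_zero_iff n).1 hn)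
    (by
      ext x
      exact (QuotientAddGroup.eq_zero_iff _).2 ⟨x, rfl⟩)
  have hmonD : IsMonHom (Red.DSmap (Spec (CommRingCat.of k)) pr) := isMonHom_DSmap _ pr
  obtain ⟨eK⟩ := kernel_iso i π hker (Red.DSmap (Spec (CommRingCat.of k)) pr)
    (Red.DSmap (Spec (CommRingCat.of k)) φ) hkerD aG aQ hφ
  have hne : Nonempty ↥(Spec (CommRingCat.of k)) :=
    ⟨(⟨⊥, Ideal.isPrime_bot⟩ : PrimeSpectrum (CommRingCat.of k))⟩
  have hfgq : AddGroup.FG (MG ⧸ φ.range) := AddGroup.fg_of_surjective hpr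
  obtain ⟨eC⟩ := addEquiv_of_iso (aK.symm ≪≫ eK) hfgq
  -- `φ` is injective
  have haGi : IsIso aG.inv.hom.hom := ⟨aG.hom.hom.hom, grp_inv_hom aG, grp_hom_inv aG⟩
  have haQi : IsIso aQ.hom.hom.hom := ⟨aQ.inv.hom.hom, grp_hom_inv aQ, grp_inv_hom aQ⟩
  have haGl : IsIso aG.inv.hom.hom.left := (Over.forget _).map_isIso aG.inv.hom.hom
  have haQl : IsIso aQ.hom.hom.hom.left := (Over.forget _).map_isIso aQ.hom.hom.hom
  have e1 : Red.DSmap (Spec (CommRingCat.of k)) φ = aG.inv.hom.hom ≫ π ≫ aQ.hom.hom.hom := by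
    rw [hφ, ← Category.assoc, grp_inv_hom, Category.id_comp]
  have e1l : (Red.DSmap (Spec (CommRingCat.of k)) φ).left =
      aG.inv.hom.hom.left ≫ π.left ≫ aQ.hom.hom.hom.left := by
    rw [e1]
    rfl
  have hff : Flat (Red.DSmap (Spec (CommRingCat.of k)) φ).left ∧
      Surjective (Red.DSmap (Spec (CommRingCat.of k)) φ).left := by
    rw [e1l]
    exact ⟨inferInstance, inferInstance⟩
  have hinj := injective_of_ff_DSmap φ hff
  -- the retraction
  have hproj : Module.Projective ℤ (MG ⧸ φ.range) :=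
    Module.Projective.of_equiv eC.symm.toIntLinearEquiv
  have hex : Function.Exact φ.toIntLinearMap pr.toIntLinearMap := by
    intro y
    constructor
    · intro hy
      exact (QuotientAddGroup.eq_zero_iff y).1 hy
    · rintro ⟨x, rfl⟩
      exact (QuotientAddGroup.eq_zero_iff (φ x)).2 ⟨x, rfl⟩
  obtain ⟨l, hl⟩ := Module.projective_lifting_property pr.toIntLinearMap LinearMap.id hpr
  have htfae := hex.split_tfae hinj hpr
  have h01 : (∃ l, pr.toIntLinearMap ∘ₗ l = LinearMap.id) →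
      (∃ l, l ∘ₗ φ.toIntLinearMap = LinearMap.id) := (htfae.out 0 1).1
  obtain ⟨r, hr⟩ := h01 ⟨l, hl⟩
  have hρ : r.toAddMonoidHom.comp φ = AddMonoidHom.id MQ := by
    ext x
    exact LinearMap.congr_fun hr x
  have haQm : IsMonHom aQ.hom.hom.hom := inferInstanceAs (IsMonHom aQ.hom.hom.hom)
  have haGm : IsMonHom aG.inv.hom.hom := inferInstanceAs (IsMonHom aG.inv.hom.hom)
  refine ⟨aQ.hom.hom.hom ≫ Red.DSmap (Spec (CommRingCat.of k)) r.toAddMonoidHom ≫ aG.inv.hom.hom,
    inferInstance, ?_⟩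
  have e2 : aG.inv.hom.hom ≫ π = Red.DSmap (Spec (CommRingCat.of k)) φ ≫ aQ.inv.hom.hom := by
    rw [e1, Category.assoc, Category.assoc, grp_hom_inv, Category.comp_id]
  rw [Category.assoc, Category.assoc, e2, ← Category.assoc (Red.DSmap _ r.toAddMonoidHom),
    ← DSmap_comp, hρ, DSmap_id, Category.id_comp, grp_hom_inv]

end Split

end Groth.Agent.H3.HomDiag
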