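import Mathlib
import Groth.Prelude.Def_Red2
import Groth.Prelude.Def_SGA3x
import Groth.Prelude.Def_RedSub
import Groth.Agent.Lib.Helper3.HomDiag.Loc2

/-! Quotients of (locally split) tori by subgroups of multiplicative type are (locally split) tori
(helper3). -/

set_option autoImplicit false

universe u

open CategoryTheory MonoidalCategory CartesianMonoidalCategory MonObj GrpObj AlgebraicGeometry Limits

namespace Groth.Agent.H3.HomDiag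

section Loc3

variable {S : Scheme.{u}}

/-- transport of a trivialisation -/
noncomputable def trivTransport {U' V W : Scheme.{u}} (g : U' ⟶ S) {Q : Over S} [GrpObj Q]
    {M : Type} [AddCommGroup M] (v : V ⟶ U')
    (e : Grp.mk (Red.bc v (Red.bc g Q)) ≅ Grp.mk (Red.DS V M)) (κ : W ⟶ V) (w : W ⟶ S)
    (hw : w = κ ≫ v ≫ g) : Grp.mk (Red.bc w Q) ≅ Grp.mk (Red.DS W M) :=
  bcEq hw Q ≪≫ trivBC κ (v ≫ g) (bcComp v g Q ≪≫ e)

/-- the quotient of a torus split over `U ⟶ S` is split Zariski-locally on `U`. -/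
theorem quot_split_over {T H Q : Over S} [GrpObj T] [GrpObj H] [GrpObj Q] (i : H ⟶ T) [IsMonHom i]
    [Mono i] (hH : SGA3x.IsMultTypeFT H) (q : T ⟶ Q) [IsMonHom q] (hq : RedSub.IsQuotient i q)
    {S' : Scheme.{u}} (f : S' ⟶ S) (U : S'.Opens) (r : ℕ)
    (hT : Red.IsSplitTorusWith (Fin r → ℤ) (Red.bc (U.ι ≫ f) T)) (s' : S') (hs' : s' ∈ U) :
    ∃ W : S'.Opens, s' ∈ W ∧ ∃ r' : ℕ,
      Red.IsSplitTorusWith (Fin r' → ℤ) (Red.bc (W.ι ≫ f) Q) := by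
  obtain ⟨a⟩ := hT
  have hmono : Mono ((Over.pullback (U.ι ≫ f)).map i) := inferInstance
  obtain ⟨V, K, hsV, ⟨e⟩⟩ := quot_local (fg_fin_int r) a ((Over.pullback (U.ι ≫ f)).map i)
    (trivSieve_bc (U.ι ≫ f) _ (trivSieve_of_isMultTypeFT hH)) ((Over.pullback (U.ι ≫ f)).map q)
    (isQuotient_bc (U.ι ≫ f) i q hq) ⟨s', hs'⟩
  obtain ⟨r', -, ⟨e'⟩⟩ := exists_addEquiv_fin K
  refine ⟨U.ι ''ᵁ V, ⟨⟨s', hs'⟩, hsV, rfl⟩, r', ⟨?_⟩⟩
  have hw : (U.ι ''ᵁ V).ι ≫ f = (U.ι.isoImage V).inv ≫ V.ι ≫ (U.ι ≫ f) := by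
    rw [← Scheme.Hom.isoImage_inv_ι U.ι V]
    simp only [Category.assoc]
  exact trivTransport (U.ι ≫ f) V.ι (e ≪≫ (dsIso _ e').symm) (U.ι.isoImage V).inv _ hw

theorem quot_isTorus {T H Q : Over S} [GrpObj T] [GrpObj H] [GrpObj Q] (hT : Red.IsTorus T)
    (i : H ⟶ T) [IsMonHom i] [Mono i] (hH : SGA3x.IsMultTypeFT H) (q : T ⟶ Q) [IsMonHom q]
    (hq : RedSub.IsQuotient i q) : Red.IsTorus Q := by
  obtain ⟨S', f, hflat, hsurj, hqc, hloc⟩ := hT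
  refine ⟨S', f, hflat, hsurj, hqc, fun s' => ?_⟩
  obtain ⟨U, hs'U, r, hr⟩ := hloc s'
  exact quot_split_over i hH q hq f U r hr s' hs'U

theorem quot_locallySplit {T H Q : Over S} [GrpObj T] [GrpObj H] [GrpObj Q]
    (hT : ∀ s : S, ∃ U : S.Opens, s ∈ U ∧ ∃ r : ℕ,
      Red.IsSplitTorusWith (Fin r → ℤ) (Red.bc U.ι T))
    (i : H ⟶ T) [IsMonHom i] [Mono i] (hH : SGA3x.IsMultTypeFT H) (q : T ⟶ Q) [IsMonHom q]
    (hq : RedSub.IsQuotient i q) :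
    ∀ s : S, ∃ U : S.Opens, s ∈ U ∧ ∃ r : ℕ,
      Red.IsSplitTorusWith (Fin r → ℤ) (Red.bc U.ι Q) := by
  intro s
  obtain ⟨U, hsU, r, ⟨a⟩⟩ := hT s
  have ha : Red.IsSplitTorusWith (Fin r → ℤ) (Red.bc (U.ι ≫ 𝟙 S) T) :=
    ⟨bcEq (Category.comp_id U.ι) T ≪≫ a⟩
  obtain ⟨W, hsW, r', ⟨e⟩⟩ := quot_split_over i hH q hq (𝟙 S) U r ha s hsU
  exact ⟨W, hsW, r', ⟨bcEq (Category.comp_id W.ι).symm Q ≪≫ e⟩⟩

end Loc3

end Groth.Agent.H3.HomDiag
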