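import Mathlib
import Groth.Prelude.Def_Red2
import Groth.Agent.Lib.Helper3.HomDiag.Loc1
import Groth.Agent.Lib.Helper3.HomDiag.Tori

/-! Characters of tori: fibrewise non-trivial iff faithfully flat (helper3). -/

set_option autoImplicit false

universe u

open CategoryTheory MonoidalCategory CartesianMonoidalCategory MonObj GrpObj AlgebraicGeometry Limits
open Groth.Agent.H3.DSKit

namespace Groth.Agent.H3.HomDiag

section TorChar

variable {S : Scheme.{u}}

theorem flat_geomExt (s : S) : Flat (Spec.map (CommRingCat.ofHom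
    (algebraMap (S.residueField s) (AlgebraicClosure (S.residueField s))))) := by
  rw [Flat.SpecMap_iff]
  change (algebraMap (S.residueField s) (AlgebraicClosure (S.residueField s))).Flat
  exact RingHom.flat_algebraMap_iff.2 inferInstance

theorem surjective_geomExt (s : S) : Surjective (Spec.map (CommRingCat.ofHom
    (algebraMap (S.residueField s) (AlgebraicClosure (S.residueField s))))) := by
  refine ⟨fun y => ⟨(default : PrimeSpectrum (AlgebraicClosure (S.residueField s))), ?_⟩⟩
  exact Subsingleton.elim (α := PrimeSpectrum (S.residueField s)) _ _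

/-- triviality on the geometric fibre is triviality on the fibre. -/
theorem triv_geom_iff {G H : Over S} [GrpObj G] [GrpObj H] (w : G ⟶ H) (s : S) :
    (Over.pullback (Red.geomPt s)).map w = 1 ↔
      (Over.pullback (S.fromSpecResidueField s)).map w = 1 := by
  have := flat_geomExt s
  have := surjective_geomExt s
  constructor
  · intro h
    have h1 := bc_eq_of_comp_fpqc (Spec.map (CommRingCat.ofHom
      (algebraMap (S.residueField s) (AlgebraicClosure (S.residueField s)))))
      (S.fromSpecResidueField s) w 1 (by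
        change (Over.pullback (Red.geomPt s)).map w = (Over.pullback (Red.geomPt s)).map 1
        rw [h, bc_one])
    rwa [bc_one] at h1
  · intro h
    have h1 := bc_eq_comp (Spec.map (CommRingCat.ofHom
      (algebraMap (S.residueField s) (AlgebraicClosure (S.residueField s)))))
      (S.fromSpecResidueField s) w 1 (by rw [h, bc_one])
    rw [bc_one] at h1
    exact h1

theorem torus_char_tfae (T : Over S) [GrpObj T] (hT : Red.IsTorus T) (α : T ⟶ Red.Gm S)
    [IsMonHom α] :
    ((∀ s : S, (Over.pullback (Red.geomPt s)).map α ≠ 1) ↔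
      (∀ (S' : Scheme.{u}) (g : S' ⟶ S), Nonempty ↥S' → (Over.pullback g).map α ≠ 1)) ∧
    ((∀ s : S, (Over.pullback (Red.geomPt s)).map α ≠ 1) ↔
      (Flat α.left ∧ Surjective α.left)) := by
  have hFGZ : AddGroup.FG ℤ := Module.Finite.iff_addGroup_fg.1 inferInstance
  have hmem := locFormSieveP_mem (fun M _ => PrT M) (fun N _ => Nonempty (N ≃+ ℤ)) α
    (trivSieve_mono _ _ (fun M _ h => h.1) (trivSieve_of_isTorus hT))
    (trivSieve_self (fun N _ => Nonempty (N ≃+ ℤ) ∧ AddGroup.FG N) ℤ
      ⟨⟨AddEquiv.refl ℤ⟩, hFGZ⟩)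
  refine ⟨⟨?_, ?_⟩, ⟨?_, ?_⟩⟩
  · intro h S' g hne hg
    obtain ⟨x⟩ := hne
    exact h (g x) ((triv_geom_iff α (g x)).2 (trivAt_of_bc α g x hg))
  · intro h s
    exact h _ (Red.geomPt s) inferInstance
  · intro h
    have hff : (@Flat ⊓ @Surjective : MorphismProperty Scheme.{u}) α.left := by
      refine prop_of_sieve (@Flat ⊓ @Surjective : MorphismProperty Scheme.{u}) hmem α ?_
      rintro T₁ t ⟨M, N, _, _, φ, ⟨r, ⟨eM⟩⟩, ⟨eN⟩, hLF⟩
      rw [hLF.prop_iff (@Flat ⊓ @Surjective : MorphismProperty Scheme.{u})]
      by_cases hne : Nonempty T₁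
      · obtain ⟨x⟩ := hne
        have hne0 : φ ≠ 0 := by
          intro h0
          have h1 := (triv_fibre_iff α ⟨hLF.choose, hLF.choose_spec⟩ x).2 h0
          exact h (t x) ((triv_geom_iff α (t x)).2 h1)
        have : Nonempty T₁ := ⟨x⟩
        apply ff_DSmap_of_injective T₁ φ
        rw [injective_iff_map_eq_zero]
        intro n hn
        have hgen : ∀ n' : N, n' = (eN n') • eN.symm 1 := by
          intro n'
          apply eN.injective
          rw [map_zsmul, AddEquiv.apply_symm_apply]
          simp
        have h2 : (eN n) • eM (φ (eN.symm 1)) = 0 := by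
          rw [← map_zsmul, ← map_zsmul, ← hgen n, hn, map_zero]
        rcases smul_eq_zero.1 h2 with h3 | h3
        · rw [hgen n, h3, zero_smul]
        · exfalso
          apply hne0
          ext n'
          have h4 : φ (eN.symm 1) = 0 := eM.injective (by rw [h3, map_zero])
          rw [hgen n', map_zsmul, h4, smul_zero]
          rfl
      · have h1 : IsEmpty T₁ := not_nonempty_iff.1 hne
        have h2 : IsEmpty (Red.DS T₁ N).left := Function.isEmpty (Red.DS T₁ N).hom.base
        exact ⟨inferInstance, inferInstance⟩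
    exact hff
  · rintro ⟨hfl, hsu⟩ s hs
    have hs' := (triv_geom_iff α s).1 hs
    obtain ⟨T₁, t, y, ⟨M, N, _, _, φ, -, ⟨eN⟩, hLF⟩, hy⟩ := exists_mem_of_mem hmem s
    have h0 : φ = 0 := by
      have := triv_fibre_iff α hLF y
      rw [hy] at this
      exact this.1 hs'
    have : Nonempty T₁ := ⟨y⟩
    have sq := Groth.Agent.H3.isPullback_overPullback_map t α
    have hbc : (@Flat ⊓ @Surjective : MorphismProperty Scheme.{u})
        ((Over.pullback t).map α).left :=
      MorphismProperty.of_isPullback (P := (@Flat ⊓ @Surjective : MorphismProperty Scheme.{u}))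
        sq.flip ⟨hfl, hsu⟩
    have hD := (hLF.prop_iff (@Flat ⊓ @Surjective : MorphismProperty Scheme.{u})).1 hbc
    have hinj := injective_of_ff_DSmap φ hD
    have h1 : eN.symm 1 = 0 := hinj (by rw [h0]; rfl)
    have h2 : (1 : ℤ) = 0 := by
      have := congrArg eN h1
      rwa [AddEquiv.apply_symm_apply, map_zero] at this
    exact one_ne_zero h2

end TorChar

end Groth.Agent.H3.HomDiag
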